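import Mathlib
import Cfsg.Agent.SmallSimple.SylowInter

/-!
# Subgroups of a simple group of order 20160 with elements of orders 1, 2, 3, 4, 5, 7 (helper793, for S4816)

* `B34 S` : order 20160, simple, element orders in `{1, 2, 3, 4, 5, 7}`, no subgroup of order 9 normalises one of order 64;
* `card_norm5`, `card_norm7`, `card_norm9` : the orders 10, 21, 72 of the Sylow normalizers;
* `eq_top` : a subgroup of order divisible by 35, 63 or 144 is the whole group.
-/

set_option autoImplicit false
set_option linter.unusedSectionVars false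

namespace Cfsg.Agent.H793.RIM

open Subgroup MulAction

universe u

/-- The facts used about `PSL(3,4)`. -/
structure B34 (S : Type*) [Group S] : Prop where
  card : Nat.card S = 20160
  simple : IsSimpleGroup S
  ord : ∀ x : S, orderOf x = 1 ∨ orderOf x = 2 ∨ orderOf x = 3 ∨ orderOf x = 4 ∨ orderOf x = 5 ∨ orderOf x = 7
  two : ∀ T P : Subgroup S, Nat.card T = 64 → Nat.card P = 9 → ¬ P ≤ normalizer (T : Set S)

variable {S : Type*} [Group S]

theorem B34.finite (h : B34 S) : Finite S := Nat.finite_of_card_ne_zero (by rw [h.card]; norm_num)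

/-- the centralizer of an element of prime order `r` is an `r`-group -/
theorem B34.cent_pgroup (h : B34 S) {r : ℕ} (hr : r.Prime) {x : S} (hx : orderOf x = r) :
    IsPGroup r (centralizer ({x} : Set S)) := by
  intro y
  have hc : Commute x (y : S) := (mem_centralizer_singleton_iff.1 y.2).symm
  have key : Nat.Coprime r (orderOf (y : S)) → orderOf (y : S) = 1 := by
    intro hco
    have h1 : orderOf (x * (y : S)) = r * orderOf (y : S) := by
      rw [← hx]
      exact hc.orderOf_mul_eq_mul_orderOf_of_coprime (by rwa [hx])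
    have h2 := h.ord (x * (y : S))
    rw [h1] at h2
    have h3 := h.ord x
    rw [hx] at h3
    have h4 := h.ord (y : S)
    have h5 : r ≠ 1 := hr.one_lt.ne'
    have h6 : r ≠ 4 := by rintro rfl; exact absurd hr (by norm_num)
    rcases h4 with h4 | h4 | h4 | h4 | h4 | h4
    · exact h4
    all_goals
      exfalso
      rw [h4] at h2 hco
      have h7 : r = 2 ∨ r = 3 ∨ r = 5 ∨ r = 7 := by omega
      rcases h7 with rfl | rfl | rfl | rfl <;> first | omega | (revert hco; decide)
  have hpow : ∃ k, orderOf (y : S) = r ^ k := by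
    by_cases hco : Nat.Coprime r (orderOf (y : S))
    · exact ⟨0, by rw [key hco, pow_zero]⟩
    · have h5 : r ∣ orderOf (y : S) := by
        by_contra h6
        exact hco ((hr.coprime_iff_not_dvd).2 h6)
      have h4 := h.ord (y : S)
      rcases h4 with h4 | h4 | h4 | h4 | h4 | h4 <;> rw [h4] at h5 ⊢
      · exact ⟨0, by simp⟩
      · exact ⟨1, by rw [pow_one]; exact ((Nat.prime_dvd_prime_iff_eq hr (by norm_num)).1 h5).symm⟩
      · exact ⟨1, by rw [pow_one]; exact ((Nat.prime_dvd_prime_iff_eq hr (by norm_num)).1 h5).symm⟩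
      · have h6 : r ∣ 2 := hr.dvd_of_dvd_pow (n := 2) (by norm_num; exact h5)
        have h7 := (Nat.prime_dvd_prime_iff_eq hr Nat.prime_two).1 h6
        exact ⟨2, by rw [h7]; norm_num⟩
      · exact ⟨1, by rw [pow_one]; exact ((Nat.prime_dvd_prime_iff_eq hr (by norm_num)).1 h5).symm⟩
      · exact ⟨1, by rw [pow_one]; exact ((Nat.prime_dvd_prime_iff_eq hr (by norm_num)).1 h5).symm⟩
  obtain ⟨k, hk⟩ := hpow
  refine ⟨k, Subtype.ext ?_⟩
  rw [coe_pow, ← hk]
  exact pow_orderOf_eq_one _

/-- subgroups of order 9 are commutative -/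
theorem comm_nine {P : Subgroup S} (hP : Nat.card P = 9) {a b : S} (ha : a ∈ P) (hb : b ∈ P) : a * b = b * a := by
  have : Fact (Nat.Prime 3) := ⟨Nat.prime_three⟩
  have h1 := IsPGroup.isMulCommutative_of_card_eq_prime_sq (p := 3) (G := P) (by rw [hP]; norm_num)
  have h2 := h1.is_comm.comm (⟨a, ha⟩ : P) ⟨b, hb⟩
  exact congrArg Subtype.val h2

/-- elements of a subgroup of order `r` (prime) or 9 -/
theorem B34.order_mem (h : B34 S) {P : Subgroup S} {r : ℕ} (hr : r.Prime)
    (hP : Nat.card P = r ∨ (r = 3 ∧ Nat.card P = 9)) {x : S} (hx : x ∈ P) (hx1 : x ≠ 1) : orderOf x = r := by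
  have h1 : orderOf (⟨x, hx⟩ : P) ∣ Nat.card P := _root_.orderOf_dvd_natCard _
  rw [Subgroup.orderOf_mk] at h1
  have h2 : orderOf x ≠ 1 := fun h3 => hx1 (orderOf_eq_one_iff.1 h3)
  rcases hP with hP | ⟨rfl, hP⟩
  · rw [hP] at h1
    exact ((Nat.dvd_prime hr).1 h1).resolve_left h2
  · rw [hP] at h1
    have h3 := h.ord x
    rcases h3 with h3 | h3 | h3 | h3 | h3 | h3 <;> rw [h3] at h1 h2 ⊢ <;> omega

/-- the centralizer of a nontrivial element of a subgroup of order 5, 7 or 9 is the subgroup -/
theorem B34.cent_eq (h : B34 S) {P : Subgroup S} {r a : ℕ} (hr : r.Prime) (hP : Nat.card P = r ^ a)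
    (hra : (r = 5 ∧ a = 1) ∨ (r = 7 ∧ a = 1) ∨ (r = 3 ∧ a = 2)) {x : S} (hx : x ∈ P) (hx1 : x ≠ 1) :
    centralizer ({x} : Set S) = P := by
  have hfin := h.finite
  have hP' : Nat.card P = r ∨ (r = 3 ∧ Nat.card P = 9) := by
    rcases hra with ⟨rfl, rfl⟩ | ⟨rfl, rfl⟩ | ⟨rfl, rfl⟩
    · left; rw [hP]; norm_num
    · left; rw [hP]; norm_num
    · right; exact ⟨rfl, by rw [hP]; norm_num⟩
  have ho := h.order_mem hr hP' hx hx1
  have h1 := h.cent_pgroup hr ho
  have hle : P ≤ centralizer ({x} : Set S) := by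
    intro y hy
    rw [mem_centralizer_singleton_iff]
    rcases hP' with hP' | ⟨-, hP'⟩
    · have : Fact r.Prime := ⟨hr⟩
      have hc : IsCyclic P := isCyclic_of_prime_card hP'
      have h2 := IsCyclic.isMulCommutative.is_comm.comm (⟨y, hy⟩ : P) ⟨x, hx⟩
      exact congrArg Subtype.val h2
    · exact comm_nine hP' hy hx
  have : Fact r.Prime := ⟨hr⟩
  obtain ⟨k, hk⟩ := (IsPGroup.iff_card).1 h1
  have hd : Nat.card (centralizer ({x} : Set S)) ∣ 20160 := by
    rw [← h.card]; exact card_subgroup_dvd_card _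
  have hk' : k ≤ a := by
    rw [hk] at hd
    by_contra hlt
    push Not at hlt
    have h3 : r ^ (a + 1) ∣ 20160 := (pow_dvd_pow r hlt).trans hd
    rcases hra with ⟨rfl, rfl⟩ | ⟨rfl, rfl⟩ | ⟨rfl, rfl⟩ <;> revert h3 <;> norm_num
  symm
  refine eq_of_le_of_card_ge hle ?_
  rw [hk, hP]
  exact Nat.pow_le_pow_right hr.pos hk'

/-- The normalizer of `P` acts on `P` with regular orbits outside `1`. -/
theorem norm_modEq [Finite S] (P : Subgroup S) (hP : ∀ x ∈ P, x ≠ 1 → centralizer ({x} : Set S) = P) :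
    ∃ k, Nat.card (normalizer (P : Set S)) = Nat.card P * k ∧ Nat.card P ≡ 1 [MOD k] := by
  set N := normalizer (P : Set S) with hN
  have hPN : P ≤ N := le_normalizer
  refine ⟨(P.subgroupOf N).index, ?_, ?_⟩
  · rw [← (P.subgroupOf N).card_mul_index, Nat.card_congr (subgroupOfEquivOfLe hPN).toEquiv]
  · let act : MulAction N P :=
      { smul := fun n x => ⟨(n : S) * x * (n : S)⁻¹, (mem_normalizer_iff.1 n.2 _).1 x.2⟩
        one_smul := fun x => Subtype.ext (by
          show ((1 : N) : S) * x * ((1 : N) : S)⁻¹ = x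
          simp)
        mul_smul := fun m n x => Subtype.ext (by
          show ((m * n : N) : S) * x * ((m * n : N) : S)⁻¹ = (m : S) * ((n : S) * x * (n : S)⁻¹) * (m : S)⁻¹
          rw [Subgroup.coe_mul, mul_inv_rev]
          group) }
    refine SmallSimple.SylowInter.card_modEq_one_of_orbits (H := N) (α := P) _ 1 ?_ ?_
    · intro n
      apply Subtype.ext
      show (n : S) * ((1 : P) : S) * (n : S)⁻¹ = ((1 : P) : S)
      simp
    · intro x hx
      have hx1 : (x : S) ≠ 1 := fun h => hx (Subtype.ext h)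
      have hst : MulAction.stabilizer N x = P.subgroupOf N := by
        ext n
        rw [MulAction.mem_stabilizer_iff, mem_subgroupOf]
        have h1 : n • x = x ↔ (n : S) ∈ centralizer ({(x : S)} : Set S) := by
          rw [mem_centralizer_singleton_iff]
          constructor
          · intro h2
            have h3 : (n : S) * x * (n : S)⁻¹ = x := congrArg Subtype.val h2
            rwa [mul_inv_eq_iff_eq_mul] at h3
          · intro h2
            apply Subtype.ext
            show (n : S) * x * (n : S)⁻¹ = x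
            rwa [mul_inv_eq_iff_eq_mul]
        rw [h1, hP x x.2 hx1]
      have h4 := MulAction.index_stabilizer N x
      rw [hst] at h4
      rw [Nat.card_coe_set_eq, ← h4]

theorem card_sylow_of_card [Finite S] {r a : ℕ} [hr : Fact r.Prime] {P : Subgroup S} (hP : Nat.card P = r ^ a)
    (h : ¬ r ^ (a + 1) ∣ Nat.card S) : ∃ Q : Sylow r S, (Q : Subgroup S) = P := by
  obtain ⟨Q, hQ⟩ := (IsPGroup.of_card hP).exists_le_sylow
  refine ⟨Q, (eq_of_le_of_card_ge hQ ?_).symm⟩
  obtain ⟨b, hb⟩ := (IsPGroup.iff_card).1 Q.2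
  rw [hb, hP]
  refine Nat.pow_le_pow_right hr.out.pos ?_
  by_contra hlt
  push Not at hlt
  apply h
  have h1 : Nat.card Q ∣ Nat.card S := card_subgroup_dvd_card _
  rw [hb] at h1
  exact (pow_dvd_pow r hlt).trans h1

theorem B34.norm5 (h : B34 S) {P : Subgroup S} (hP : Nat.card P = 5) : Nat.card (normalizer (P : Set S)) = 10 := by
  have hfin := h.finite
  have : Fact (Nat.Prime 5) := ⟨by norm_num⟩
  obtain ⟨k, h1, h2⟩ := norm_modEq P fun x hx hx1 =>
    h.cent_eq (r := 5) (a := 1) (by norm_num) (by rw [hP]; norm_num) (Or.inl ⟨rfl, rfl⟩) hx hx1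
  obtain ⟨Q, hQ⟩ := card_sylow_of_card (r := 5) (a := 1) (P := P) (by rw [hP]; norm_num) (by rw [h.card]; norm_num)
  have h3 := card_sylow_modEq_one 5 S
  have h4 := Sylow.card_eq_index_normalizer Q
  have h5 := (normalizer ((Q : Subgroup S) : Set S)).card_mul_index
  have h5 : Nat.card (normalizer ((Q : Subgroup S) : Set S)) * Nat.card (Sylow 5 S) = Nat.card S := by rw [h4]; exact h5
  rw [hQ, h1, hP, h.card] at h5
  rw [hP] at h1 h2
  have hk : k ∣ 4 := (Nat.modEq_iff_dvd' (by norm_num : 1 ≤ 5)).1 h2.symm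
  have hk' := Nat.le_of_dvd (by norm_num) hk
  have h6 : Nat.card (Sylow 5 S) % 5 = 1 := h3
  rw [h1]
  interval_cases k <;> omega

theorem B34.norm7 (h : B34 S) {P : Subgroup S} (hP : Nat.card P = 7) : Nat.card (normalizer (P : Set S)) = 21 := by
  have hfin := h.finite
  have : Fact (Nat.Prime 7) := ⟨by norm_num⟩
  obtain ⟨k, h1, h2⟩ := norm_modEq P fun x hx hx1 =>
    h.cent_eq (r := 7) (a := 1) (by norm_num) (by rw [hP]; norm_num) (Or.inr (Or.inl ⟨rfl, rfl⟩)) hx hx1
  obtain ⟨Q, hQ⟩ := card_sylow_of_card (r := 7) (a := 1) (P := P) (by rw [hP]; norm_num) (by rw [h.card]; norm_num)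
  have h3 := card_sylow_modEq_one 7 S
  have h4 := Sylow.card_eq_index_normalizer Q
  have h5 := (normalizer ((Q : Subgroup S) : Set S)).card_mul_index
  have h5 : Nat.card (normalizer ((Q : Subgroup S) : Set S)) * Nat.card (Sylow 7 S) = Nat.card S := by rw [h4]; exact h5
  rw [hQ, h1, hP, h.card] at h5
  rw [hP] at h1 h2
  have hk : k ∣ 6 := (Nat.modEq_iff_dvd' (by norm_num : 1 ≤ 7)).1 h2.symm
  have hk' := Nat.le_of_dvd (by norm_num) hk
  have h6 : Nat.card (Sylow 7 S) % 7 = 1 := h3
  rw [h1]
  interval_cases k <;> omega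

/-- Sylow 3-subgroups (of a subgroup of order divisible by 9) intersect trivially. -/
theorem B34.ti (h : B34 S) {P Q : Subgroup S} (hP : Nat.card P = 9) (hQ : Nat.card Q = 9) {x : S} (hx : x ∈ P)
    (hx' : x ∈ Q) (hx1 : x ≠ 1) : P = Q := by
  rw [← h.cent_eq (r := 3) (a := 2) (by norm_num) (by rw [hP]; norm_num) (Or.inr (Or.inr ⟨rfl, rfl⟩)) hx hx1]
  exact h.cent_eq (r := 3) (a := 2) (by norm_num) (by rw [hQ]; norm_num) (Or.inr (Or.inr ⟨rfl, rfl⟩)) hx' hx1

/-- the number of Sylow 3-subgroups is 1 modulo 9 -/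
theorem B34.card_sylow3 (h : B34 S) {G : Type*} [Group G] [Finite G] (f : G →* S) (hf : Function.Injective f)
    (h9 : 9 ∣ Nat.card G) : Nat.card (Sylow 3 G) % 9 = 1 := by
  have hfin := h.finite
  have : Fact (Nat.Prime 3) := ⟨Nat.prime_three⟩
  by_contra hcon
  have hG : Nat.card G ∣ 20160 := by rw [← h.card]; exact Subgroup.card_dvd_of_injective f hf
  have hcard : ∀ P : Sylow 3 G, Nat.card P = 9 := by
    intro P
    obtain ⟨b, hb⟩ := (IsPGroup.iff_card).1 P.2
    have h1 : 3 ^ 2 ∣ Nat.card P := P.pow_dvd_card_of_pow_dvd_card (by norm_num; exact h9)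
    have h2 : Nat.card P ∣ Nat.card G := card_subgroup_dvd_card _
    have h3 : b < 3 := by
      by_contra h4
      push Not at h4
      have h5 : 3 ^ 3 ∣ 20160 := ((pow_dvd_pow 3 h4).trans (hb ▸ h2)).trans hG
      revert h5; norm_num
    have h6 : 2 ≤ b := by
      rw [hb] at h1
      exact (Nat.pow_dvd_pow_iff_le_right (by norm_num)).1 h1
    have : b = 2 := by omega
    rw [hb, this]; norm_num
  obtain ⟨P⟩ : Nonempty (Sylow 3 G) := inferInstance
  obtain ⟨R, hPR, hR⟩ := SmallSimple.SylowInter.exists_ne_pow_dvd_card_inf 3 2 2 (fun h1 => hcon (by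
    have h2 : Nat.card (Sylow 3 G) % 9 = 1 % 9 := h1
    simpa using h2)) P (by rw [hcard P]; norm_num)
  have hR : 3 ∣ Nat.card ((P : Subgroup G) ⊓ (R : Subgroup G) : Subgroup G) := hR
  have hne : (P : Subgroup G) ⊓ (R : Subgroup G) ≠ ⊥ := by
    intro h1
    rw [h1, Subgroup.card_bot] at hR
    revert hR; norm_num
  obtain ⟨⟨x, hx⟩, hx1⟩ := (Subgroup.ne_bot_iff_exists_ne_one).1 hne
  have hx1' : f x ≠ 1 := by
    intro h1
    apply hx1
    apply Subtype.ext
    exact hf (h1.trans (map_one f).symm)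
  apply hPR
  apply Sylow.ext
  apply Subgroup.map_injective hf
  have e1 : ∀ Q : Sylow 3 G, Nat.card ((Q : Subgroup G).map f) = 9 := by
    intro Q
    rw [Subgroup.card_map_of_injective hf]
    exact hcard Q
  exact h.ti (e1 P) (e1 R) (x := f x) ⟨x, hx.1, rfl⟩ ⟨x, hx.2, rfl⟩ hx1'

theorem B34.norm9 (h : B34 S) {P : Subgroup S} (hP : Nat.card P = 9) : Nat.card (normalizer (P : Set S)) = 72 := by
  have hfin := h.finite
  have : Fact (Nat.Prime 3) := ⟨Nat.prime_three⟩
  obtain ⟨k, h1, h2⟩ := norm_modEq P fun x hx hx1 =>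
    h.cent_eq (r := 3) (a := 2) (by norm_num) (by rw [hP]; norm_num) (Or.inr (Or.inr ⟨rfl, rfl⟩)) hx hx1
  obtain ⟨Q, hQ⟩ := card_sylow_of_card (r := 3) (a := 2) (P := P) (by rw [hP]; norm_num) (by rw [h.card]; norm_num)
  have h3 := h.card_sylow3 (MonoidHom.id S) Function.injective_id (by rw [h.card]; norm_num)
  have h4 := Sylow.card_eq_index_normalizer Q
  have h5 := (normalizer ((Q : Subgroup S) : Set S)).card_mul_index
  have h5 : Nat.card (normalizer ((Q : Subgroup S) : Set S)) * Nat.card (Sylow 3 S) = Nat.card S := by rw [h4]; exact h5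
  rw [hQ, h1, hP, h.card] at h5
  rw [hP] at h1 h2
  have hk : k ∣ 8 := (Nat.modEq_iff_dvd' (by norm_num : 1 ≤ 9)).1 h2.symm
  have hk' := Nat.le_of_dvd (by norm_num) hk
  rw [h1]
  interval_cases k <;> omega

theorem B34.n3 (h : B34 S) : Nat.card (Sylow 3 S) = 280 := by
  have hfin := h.finite
  have : Fact (Nat.Prime 3) := ⟨Nat.prime_three⟩
  obtain ⟨P⟩ : Nonempty (Sylow 3 S) := inferInstance
  have hc : Nat.card (P : Subgroup S) = 9 := by
    have h1 := P.card_eq_multiplicity
    rw [h.card] at h1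
    have h2 : (20160 : ℕ).factorization 3 = 2 := by
      rw [show 20160 = 3 ^ 2 * 2240 by norm_num, Nat.factorization_mul (by norm_num) (by norm_num),
        Nat.Prime.factorization_pow Nat.prime_three]
      simp [Nat.factorization_eq_zero_of_not_dvd]
    rw [h2] at h1
    rw [h1]; norm_num
  have h4 := Sylow.card_eq_index_normalizer P
  have h5 := (normalizer ((P : Subgroup S) : Set S)).card_mul_index
  have h5 : Nat.card (normalizer ((P : Subgroup S) : Set S)) * Nat.card (Sylow 3 S) = Nat.card S := by rw [h4]; exact h5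
  rw [h.norm9 hc, h.card] at h5
  omega

/-! ### Orders of subgroups -/

/-- Burnside's theorem with orders. -/
theorem exists_compl {G : Type*} [Group G] [Finite G] {r : ℕ} [Fact r.Prime] (P : Sylow r G)
    (hN : Nat.card (normalizer ((P : Subgroup G) : Set G)) = Nat.card (P : Subgroup G))
    (hc : ∀ a ∈ (P : Subgroup G), ∀ b ∈ (P : Subgroup G), a * b = b * a) :
    ∃ K : Subgroup G, K.Normal ∧ Nat.card K * Nat.card (P : Subgroup G) = Nat.card G := by
  have h1 : (P : Subgroup G) = normalizer ((P : Subgroup G) : Set G) :=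
    eq_of_le_of_card_ge le_normalizer hN.le
  have h2 : normalizer ((P : Subgroup G) : Set G) ≤ centralizer ((P : Subgroup G) : Set G) := by
    rw [← h1]
    intro x hx
    rw [mem_centralizer_iff]
    intro y hy
    exact hc y hy x hx
  refine ⟨(MonoidHom.transferSylow P h2).ker, inferInstance, ?_⟩
  exact (MonoidHom.ker_transferSylow_isComplement' P h2).card_mul_card

/-- Frattini: if `K` is normal of index 7, then 7 divides the order of the normalizer of a Sylow subgroup of `K`. -/
theorem seven_dvd_norm {G : Type*} [Group G] [Finite G] {K : Subgroup G} [hK : K.Normal] (hi : K.index = 7) {r : ℕ}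
    [Fact r.Prime] (R : Sylow r K) :
    7 ∣ Nat.card (normalizer (((R : Subgroup K).map K.subtype : Subgroup G) : Set G)) := by
  have h1 := R.normalizer_sup_eq_top
  have h2 : K.relIndex (normalizer (((R : Subgroup K).map K.subtype : Subgroup G) : Set G)) = 7 := by
    rw [← Subgroup.relIndex_sup_right, h1, Subgroup.relIndex_top_right, hi]
  rw [← h2]
  exact Subgroup.relIndex_dvd_card _ _

section

variable {M : Subgroup S}

theorem card_norm_dvd [Finite S] (P : Subgroup M) :
    Nat.card (normalizer (P : Set M)) ∣ Nat.card (normalizer ((P.map M.subtype : Subgroup S) : Set S)) := by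
  have h1 : (normalizer (P : Set M)).map M.subtype ≤ normalizer ((P.map M.subtype : Subgroup S) : Set S) :=
    Subgroup.le_normalizer_map _
  have h2 := Subgroup.card_dvd_of_le h1
  rwa [Subgroup.card_map_of_injective M.subtype_injective] at h2

theorem card_map_sub (P : Subgroup M) : Nat.card (P.map M.subtype) = Nat.card P :=
  Subgroup.card_map_of_injective M.subtype_injective

/-- the Sylow data of a subgroup -/
theorem sylow_data [Finite S] {r a c : ℕ} [hr : Fact r.Prime] (hd : r ^ a ∣ Nat.card M) (hnd : ¬ r ^ (a + 1) ∣ Nat.card S)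
    (hN : ∀ P : Subgroup S, Nat.card P = r ^ a → Nat.card (normalizer (P : Set S)) = r ^ a * c) :
    ∃ (P : Sylow r M) (k n : ℕ), Nat.card P = r ^ a ∧ n = Nat.card (Sylow r M) ∧ k ∣ c ∧
      Nat.card (normalizer ((P : Subgroup M) : Set M)) = r ^ a * k ∧ Nat.card M = r ^ a * k * n := by
  obtain ⟨P⟩ : Nonempty (Sylow r M) := inferInstance
  have hP : Nat.card P = r ^ a := by
    obtain ⟨b, hb⟩ := (IsPGroup.iff_card).1 P.2
    have h1 : r ^ a ∣ Nat.card P := P.pow_dvd_card_of_pow_dvd_card hd
    have h2 : Nat.card P ∣ Nat.card S := (card_subgroup_dvd_card _).trans (card_subgroup_dvd_card _)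
    have h3 : b < a + 1 := by
      by_contra h4
      push Not at h4
      exact hnd ((pow_dvd_pow r h4).trans (hb ▸ h2))
    have h4 : a ≤ b := by
      rw [hb] at h1
      exact (Nat.pow_dvd_pow_iff_le_right hr.out.one_lt).1 h1
    have : b = a := by omega
    rw [hb, this]
  have h1 := card_norm_dvd (P : Subgroup M)
  rw [hN _ (by rw [card_map_sub]; exact hP)] at h1
  have h2 : r ^ a ∣ Nat.card (normalizer ((P : Subgroup M) : Set M)) := by
    rw [← hP]
    exact Subgroup.card_dvd_of_le le_normalizer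
  obtain ⟨k, hk⟩ := h2
  refine ⟨P, k, Nat.card (Sylow r M), hP, rfl, ?_, hk, ?_⟩
  · rw [hk] at h1
    exact Nat.dvd_of_mul_dvd_mul_left (pow_pos hr.out.pos a) h1
  · rw [← hk, Sylow.card_eq_index_normalizer P]
    exact (card_mul_index _).symm

theorem B34.data5 (h : B34 S) (h5 : 5 ∣ Nat.card M) :
    ∃ n, n % 5 = 1 ∧ (Nat.card M = 5 * n ∨ Nat.card M = 10 * n) := by
  have hfin := h.finite
  have : Fact (Nat.Prime 5) := ⟨by norm_num⟩
  obtain ⟨P, k, n, -, hn, hk, -, hm⟩ := sylow_data (M := M) (r := 5) (a := 1) (c := 2) (by simpa using h5)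
    (by rw [h.card]; norm_num) (fun P hP => h.norm5 (by simpa using hP))
  refine ⟨n, ?_, ?_⟩
  · rw [hn]; exact card_sylow_modEq_one 5 M
  · have := Nat.le_of_dvd (by norm_num) hk
    interval_cases k
    · omega
    · left; omega
    · right; omega

theorem B34.data7 (h : B34 S) (h7 : 7 ∣ Nat.card M) :
    ∃ n, n % 7 = 1 ∧ ((Nat.card M = 7 * n ∧ ¬ 5 ∣ Nat.card M ∧ ¬ 9 ∣ Nat.card M) ∨ Nat.card M = 21 * n) := by
  have hfin := h.finite
  have : Fact (Nat.Prime 7) := ⟨by norm_num⟩
  obtain ⟨P, k, n, hP, hn, hk, hkN, hm⟩ := sylow_data (M := M) (r := 7) (a := 1) (c := 3) (by simpa using h7)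
    (by rw [h.card]; norm_num) (fun P hP => h.norm7 (by simpa using hP))
  refine ⟨n, ?_, ?_⟩
  · rw [hn]; exact card_sylow_modEq_one 7 M
  · have := Nat.le_of_dvd (by norm_num) hk
    have h0 : k = 1 ∨ k = 3 := by interval_cases k <;> revert hk <;> decide
    rcases h0 with rfl | rfl
    · left
      have hcyc : IsCyclic (P : Subgroup M) := isCyclic_of_prime_card (p := 7) (by simpa using hP)
      obtain ⟨K, hK, hKc⟩ := exists_compl P (by rw [hkN, hP, mul_one]) (fun a ha b hb => congrArg Subtype.val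
        (IsCyclic.isMulCommutative.is_comm.comm (⟨a, ha⟩ : (P : Subgroup M)) ⟨b, hb⟩))
      have hP7 : Nat.card (P : Subgroup M) = 7 := by simpa using hP
      have hi : K.index = 7 := by
        have h1 := K.card_mul_index
        rw [← hKc, hP7] at h1
        exact Nat.eq_of_mul_eq_mul_left Nat.card_pos h1
      rw [hP7] at hKc
      have hMS : Nat.card M ∣ 20160 := by rw [← h.card]; exact card_subgroup_dvd_card _
      refine ⟨by omega, ?_, ?_⟩
      · intro h5
        have : Fact (Nat.Prime 5) := ⟨by norm_num⟩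
        have h5K : 5 ∣ Nat.card K := by omega
        obtain ⟨R⟩ : Nonempty (Sylow 5 K) := inferInstance
        have hR : Nat.card (R : Subgroup K) = 5 := by
          obtain ⟨b, hb⟩ := (IsPGroup.iff_card).1 R.2
          have h1 : 5 ^ 1 ∣ Nat.card R := R.pow_dvd_card_of_pow_dvd_card (by simpa using h5K)
          have h2 : Nat.card R ∣ 20160 := ((card_subgroup_dvd_card _).trans (card_subgroup_dvd_card _)).trans hMS
          have h3 : b < 2 := by
            by_contra h4
            push Not at h4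
            have h6 : 5 ^ 2 ∣ 20160 := (pow_dvd_pow 5 h4).trans (hb ▸ h2)
            revert h6; norm_num
          have h6 : 1 ≤ b := by
            rw [hb] at h1
            exact (Nat.pow_dvd_pow_iff_le_right (by norm_num)).1 h1
          have : b = 1 := by omega
          rw [hb, this]; norm_num
        have h1 := seven_dvd_norm hi R
        have h2 := card_norm_dvd ((R : Subgroup K).map K.subtype)
        rw [h.norm5 (by rw [card_map_sub, card_map_sub]; exact hR)] at h2
        have h3 := h1.trans h2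
        revert h3; norm_num
      · intro h9
        have : Fact (Nat.Prime 3) := ⟨by norm_num⟩
        have h9K : 9 ∣ Nat.card K := by omega
        obtain ⟨R⟩ : Nonempty (Sylow 3 K) := inferInstance
        have hR : Nat.card (R : Subgroup K) = 9 := by
          obtain ⟨b, hb⟩ := (IsPGroup.iff_card).1 R.2
          have h1 : 3 ^ 2 ∣ Nat.card R := R.pow_dvd_card_of_pow_dvd_card (by norm_num; exact h9K)
          have h2 : Nat.card R ∣ 20160 := ((card_subgroup_dvd_card _).trans (card_subgroup_dvd_card _)).trans hMS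
          have h3 : b < 3 := by
            by_contra h4
            push Not at h4
            have h6 : 3 ^ 3 ∣ 20160 := (pow_dvd_pow 3 h4).trans (hb ▸ h2)
            revert h6; norm_num
          have h6 : 2 ≤ b := by
            rw [hb] at h1
            exact (Nat.pow_dvd_pow_iff_le_right (by norm_num)).1 h1
          have : b = 2 := by omega
          rw [hb, this]; norm_num
        have h1 := seven_dvd_norm hi R
        have h2 := card_norm_dvd ((R : Subgroup K).map K.subtype)
        rw [h.norm9 (by rw [card_map_sub, card_map_sub]; exact hR)] at h2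
        have h3 := h1.trans h2
        revert h3; norm_num
    · right; omega

theorem B34.data9 (h : B34 S) (h9 : 9 ∣ Nat.card M) :
    ∃ n, n % 9 = 1 ∧ ((Nat.card M = 9 * n ∧ Nat.card M ≠ 576) ∨ Nat.card M = 18 * n ∨ Nat.card M = 36 * n ∨
      Nat.card M = 72 * n) := by
  have hfin := h.finite
  have : Fact (Nat.Prime 3) := ⟨by norm_num⟩
  obtain ⟨P, k, n, hP, hn, hk, hkN, hm⟩ := sylow_data (M := M) (r := 3) (a := 2) (c := 8) (by norm_num; exact h9)
    (by rw [h.card]; norm_num) (fun P hP => by rw [h.norm9 (by rw [hP]; norm_num)]; norm_num)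
  refine ⟨n, ?_, ?_⟩
  · rw [hn]; exact h.card_sylow3 M.subtype M.subtype_injective h9
  · have := Nat.le_of_dvd (by norm_num) hk
    have h0 : k = 1 ∨ k = 2 ∨ k = 4 ∨ k = 8 := by interval_cases k <;> revert hk <;> decide
    rcases h0 with rfl | rfl | rfl | rfl
    · left
      refine ⟨by omega, ?_⟩
      intro h576
      have hP9 : Nat.card ((P : Subgroup M).map M.subtype) = 9 := by rw [card_map_sub, hP]; norm_num
      obtain ⟨K, hK, hKc⟩ := exists_compl P (by rw [hkN, hP, mul_one]) (fun a ha b hb => Subtype.ext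
        (comm_nine hP9 (mem_map_of_mem _ ha) (mem_map_of_mem _ hb)))
      have hP9' : Nat.card (P : Subgroup M) = 9 := by rw [hP]; norm_num
      rw [hP9', h576] at hKc
      refine h.two (K.map M.subtype) ((P : Subgroup M).map M.subtype) (by rw [card_map_sub]; omega) hP9 ?_
      rintro _ ⟨x, -, rfl⟩
      refine (Subgroup.le_normalizer_map (H := K) M.subtype) (mem_map_of_mem _ ?_)
      rw [Subgroup.normalizer_eq_top]
      trivial
    · right; left; omega
    · right; right; left; omega
    · right; right; right; omega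

/-- numerical test -/
def tst (m : ℕ) : Bool :=
  ((m % 5 != 0) || ((m % 5 == 0 && m / 5 % 5 == 1) || (m % 10 == 0 && m / 10 % 5 == 1))) &&
  ((m % 7 != 0) || ((m % 7 == 0 && m / 7 % 7 == 1 && m % 5 != 0 && m % 9 != 0) || (m % 21 == 0 && m / 21 % 7 == 1))) &&
  ((m % 9 != 0) || ((m % 9 == 0 && m / 9 % 9 == 1 && m != 576) || (m % 18 == 0 && m / 18 % 9 == 1) ||
    (m % 36 == 0 && m / 36 % 9 == 1) || (m % 72 == 0 && m / 72 % 9 == 1)))

theorem tst_spec : ∀ m ∈ Nat.divisors 20160, tst m = true → (m % 35 = 0 ∨ m % 63 = 0 ∨ m % 144 = 0) → m = 20160 := by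
  decide +kernel

theorem B34.tst_card (h : B34 S) : tst (Nat.card M) = true := by
  unfold tst
  rw [Bool.and_eq_true, Bool.and_eq_true]
  refine ⟨⟨?_, ?_⟩, ?_⟩
  · by_cases h5 : 5 ∣ Nat.card M
    · obtain ⟨n, hn, h1 | h1⟩ := h.data5 h5
      · rw [h1]; simp [hn]
      · rw [h1]
        have : 10 * n / 10 = n := by omega
        simp [this, hn]
    · have : Nat.card M % 5 ≠ 0 := fun h1 => h5 (Nat.dvd_of_mod_eq_zero h1)
      simp [this]
  · by_cases h7 : 7 ∣ Nat.card M
    · obtain ⟨n, hn, ⟨h1, h2, h3⟩ | h1⟩ := h.data7 h7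
      · have e1 : Nat.card M % 5 ≠ 0 := fun h => h2 (Nat.dvd_of_mod_eq_zero h)
        have e2 : Nat.card M % 9 ≠ 0 := fun h => h3 (Nat.dvd_of_mod_eq_zero h)
        have e3 : Nat.card M / 7 = n := by omega
        have e4 : Nat.card M % 7 = 0 := by omega
        simp [e1, e2, e3, e4, hn]
      · have e3 : Nat.card M / 21 = n := by omega
        have e4 : Nat.card M % 21 = 0 := by omega
        simp [e3, e4, hn]
    · have : Nat.card M % 7 ≠ 0 := fun h1 => h7 (Nat.dvd_of_mod_eq_zero h1)
      simp [this]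
  · by_cases h9 : 9 ∣ Nat.card M
    · obtain ⟨n, hn, ⟨h1, h2⟩ | h1 | h1 | h1⟩ := h.data9 h9
      · have e3 : Nat.card M / 9 = n := by omega
        have e4 : Nat.card M % 9 = 0 := by omega
        simp [e3, e4, hn, h2]
      · have e3 : Nat.card M / 18 = n := by omega
        have e4 : Nat.card M % 18 = 0 := by omega
        simp [e3, e4, hn]
      · have e3 : Nat.card M / 36 = n := by omega
        have e4 : Nat.card M % 36 = 0 := by omega
        simp [e3, e4, hn]
      · have e3 : Nat.card M / 72 = n := by omega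
        have e4 : Nat.card M % 72 = 0 := by omega
        simp [e3, e4, hn]
    · have : Nat.card M % 9 ≠ 0 := fun h1 => h9 (Nat.dvd_of_mod_eq_zero h1)
      simp [this]

/-- **A subgroup of order divisible by 35, 63 or 144 is the whole group.** -/
theorem B34.eq_top (h : B34 S) (hM : 35 ∣ Nat.card M ∨ 63 ∣ Nat.card M ∨ 144 ∣ Nat.card M) : M = ⊤ := by
  have hfin := h.finite
  have h1 : Nat.card M ∈ Nat.divisors 20160 := by
    rw [Nat.mem_divisors]
    exact ⟨by rw [← h.card]; exact card_subgroup_dvd_card _, by norm_num⟩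
  have h2 := tst_spec _ h1 h.tst_card (by
    rcases hM with hM | hM | hM
    · left; exact Nat.mod_eq_zero_of_dvd hM
    · right; left; exact Nat.mod_eq_zero_of_dvd hM
    · right; right; exact Nat.mod_eq_zero_of_dvd hM)
  rw [← h.card] at h2
  exact (Subgroup.card_eq_iff_eq_top M).1 h2

end

end Cfsg.Agent.H793.RIM
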