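import Cfsg.Agent.StdLThreeFour.Facts1
import Cfsg.Agent.S2476
import Cfsg.Agent.S0249
import Cfsg.Agent.H793.RIM.L34A

/-!
# `PSL(3,4)`: the facts of `B34` and some elements (helper793, for S4816)
-/

set_option autoImplicit false
set_option linter.unusedSectionVars false
set_option linter.constructorNameAsVariable false

namespace Cfsg.Agent.H793.RIM

open Subgroup MulAction
open Cfsg.Agent.SporadicA.FieldFour
open Cfsg.Agent.ONType.Psl
open Cfsg.Agent.ONType.PslCard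
open Cfsg.Agent.StdLThreeFour.Base
open Cfsg.Agent.StdLThreeFour.Facts1

theorem ord_L0 (x : L0) :
    orderOf x = 1 ∨ orderOf x = 2 ∨ orderOf x = 3 ∨ orderOf x = 4 ∨ orderOf x = 5 ∨ orderOf x = 7 := by
  haveI : Fact (Nat.Prime 2) := ⟨Nat.prime_two⟩
  haveI : CharP F4 2 := by
    obtain ⟨p, hp⟩ := CharP.exists F4
    obtain ⟨n, hpp, hn⟩ := FiniteField.card F4 p
    have h1 : p ∣ 2 ^ 2 := by
      rw [show 2 ^ 2 = Fintype.card F4 from rfl, hn]
      exact dvd_pow_self p n.ne_zero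
    have h2 := (Nat.prime_dvd_prime_iff_eq hpp Nat.prime_two).1 (hpp.dvd_of_dvd_pow h1)
    rwa [h2] at hp
  have h1 := Cfsg.Agent.S2476.result (F := F4) 2
  have h2 : orderOf x ∈ Set.range (orderOf : L0 → ℕ) := ⟨x, rfl⟩
  rw [h1, Set.mem_ofPred_eq, show Fintype.card F4 = 4 from rfl] at h2
  generalize orderOf x = m at h2
  norm_num at h2
  rcases h2 with h | h | h | h | h
  · have := Nat.le_of_dvd (by norm_num) h
    interval_cases m <;> revert h <;> decide
  · have := Nat.le_of_dvd (by norm_num) h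
    interval_cases m <;> revert h <;> decide
  · have := Nat.le_of_dvd (by norm_num) h
    interval_cases m <;> revert h <;> decide
  · have := Nat.le_of_dvd (by norm_num) h
    interval_cases m <;> revert h <;> decide
  · have := Nat.le_of_dvd (by norm_num) h
    interval_cases m <;> revert h <;> decide

theorem finite_L0 : Finite L0 := Nat.finite_of_card_ne_zero (by rw [card_PSL3]; norm_num)

/-- the normalizer of `S0` normalises its centre -/
theorem norm_Z0 {n : L0} (hn : n ∈ normalizer (S0 : Set L0)) {z : L0} (hz : z ∈ Z0) : n * z * n⁻¹ ∈ Z0 := by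
  have h1 : n * z * n⁻¹ ∈ S0 := (mem_normalizer_iff.1 hn z).1 (Z0_le_S0 hz)
  by_contra h2
  obtain ⟨s, hs, h3⟩ := exists_comm h1 h2 (z := e 0 0 1) ⟨1, rfl⟩
  have h4 : n⁻¹ * s * n ∈ S0 := by
    have := (mem_normalizer_iff.1 (inv_mem hn) s).1 hs
    rwa [inv_inv] at this
  have h5 := Z0_comm hz h4
  have h6 : s * (n * z * n⁻¹) * s⁻¹ * (n * z * n⁻¹)⁻¹ = 1 := by
    have h7 : s * (n * z * n⁻¹) = (n * z * n⁻¹) * s := by
      calc s * (n * z * n⁻¹) = n * ((n⁻¹ * s * n) * z) * n⁻¹ := by group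
        _ = n * (z * (n⁻¹ * s * n)) * n⁻¹ := by rw [h5]
        _ = _ := by group
    rw [h7]; group
  rw [h6] at h3
  have h7 := (e_one h3.symm).2.2
  exact absurd h7 (by decide)

theorem two_L0' {P : Subgroup L0} (hP : Nat.card P = 9) : ¬ P ≤ normalizer (S0 : Set L0) := by
  intro hle
  have hfin := finite_L0
  have h1 : Nat.card P ≤ Nat.card Z0 := by
    refine Nat.card_le_card_of_injective (fun g : P => (⟨(g : L0) * e 0 0 1 * (g : L0)⁻¹,
      norm_Z0 (hle g.2) ⟨1, rfl⟩⟩ : Z0)) ?_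
    intro g g' hgg
    have h2 : (g : L0) * e 0 0 1 * (g : L0)⁻¹ = (g' : L0) * e 0 0 1 * (g' : L0)⁻¹ := congrArg Subtype.val hgg
    have hc : Commute ((g' : L0)⁻¹ * g) (e 0 0 1) := by
      show (g' : L0)⁻¹ * g * e 0 0 1 = e 0 0 1 * ((g' : L0)⁻¹ * g)
      calc (g' : L0)⁻¹ * g * e 0 0 1 = (g' : L0)⁻¹ * ((g : L0) * e 0 0 1 * (g : L0)⁻¹) * g := by group
        _ = (g' : L0)⁻¹ * ((g' : L0) * e 0 0 1 * (g' : L0)⁻¹) * g := by rw [h2]
        _ = _ := by group
    have he : orderOf (e 0 0 1) = 2 := by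
      refine orderOf_eq_prime ?_ ?_
      · rw [pow_two, e_sq]
        exact e_zero
      · intro h3
        exact absurd (e_one h3).2.2 (by decide)
    by_contra hne
    have hx1 : (g' : L0)⁻¹ * g ≠ 1 := by
      intro h3
      apply hne
      apply Subtype.ext
      rw [inv_mul_eq_one] at h3
      exact h3.symm
    have hmem : (g' : L0)⁻¹ * g ∈ P := P.mul_mem (P.inv_mem g'.2) g.2
    have ho : orderOf ((g' : L0)⁻¹ * g) = 3 ∨ orderOf ((g' : L0)⁻¹ * g) = 9 := by
      have h3 : orderOf (⟨(g' : L0)⁻¹ * g, hmem⟩ : P) ∣ Nat.card P := _root_.orderOf_dvd_natCard _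
      rw [Subgroup.orderOf_mk, hP] at h3
      have h4 : orderOf ((g' : L0)⁻¹ * g) ≠ 1 := fun h5 => hx1 (orderOf_eq_one_iff.1 h5)
      have h5 := Nat.le_of_dvd (by norm_num) h3
      generalize orderOf ((g' : L0)⁻¹ * g) = m at h3 h4 h5
      interval_cases m <;> revert h3 h4 <;> decide
    rcases ho with ho | ho
    · have h3 := hc.orderOf_mul_eq_mul_orderOf_of_coprime (by rw [ho, he]; decide)
      rw [ho, he] at h3
      have h4 := ord_L0 ((g' : L0)⁻¹ * g * e 0 0 1)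
      omega
    · have h4 := ord_L0 ((g' : L0)⁻¹ * g)
      omega
  rw [hP, card_Z0] at h1
  omega

theorem two_L0 (T P : Subgroup L0) (hT : Nat.card T = 64) (hP : Nat.card P = 9) : ¬ P ≤ normalizer (T : Set L0) := by
  intro hle
  have hfin := finite_L0
  have : Fact (Nat.Prime 2) := ⟨Nat.prime_two⟩
  obtain ⟨Q, hQ⟩ := card_sylow_of_card (r := 2) (a := 6) (P := T) (by rw [hT]; norm_num) (by rw [card_PSL3]; norm_num)
  obtain ⟨R, hR⟩ := card_sylow_of_card (r := 2) (a := 6) (P := S0) (by rw [card_S0]; norm_num)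
    (by rw [card_PSL3]; norm_num)
  obtain ⟨g, hg⟩ := MulAction.exists_smul_eq L0 Q R
  have h1 : T.map (MulAut.conj g).toMonoidHom = S0 := by
    rw [← hQ, ← hR, ← hg]
    rfl
  apply two_L0' (P := P.map (MulAut.conj g).toMonoidHom)
  · rw [Subgroup.card_map_of_injective (MulAut.conj g).injective, hP]
  · have h2 : (normalizer (T : Set L0)).map (MulAut.conj g).toMonoidHom ≤
        normalizer ((T.map (MulAut.conj g).toMonoidHom : Subgroup L0) : Set L0) := Subgroup.le_normalizer_map _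
    rw [h1] at h2
    exact (Subgroup.map_mono hle).trans h2

theorem b34 : B34 L0 := ⟨card_PSL3, Cfsg.Agent.S0249.result 3 le_rfl, ord_L0, two_L0⟩

/-! ### elements -/

/-- order of the class of a matrix -/
theorem order_mk {A : SL3} {n : ℕ} [Fact n.Prime] {r : F4}
    (h : ((A ^ n : SL3) : Matrix (Fin 3) (Fin 3) F4) = Matrix.scalar (Fin 3) r)
    (h1 : ∃ i j : Fin 3, (A : Matrix (Fin 3) (Fin 3) F4) * tm i j 1 ≠ tm i j 1 * (A : Matrix (Fin 3) (Fin 3) F4)) :
    orderOf (QuotientGroup.mk A : PSL3) = n := by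
  refine orderOf_eq_prime ?_ ?_
  · rw [← QuotientGroup.mk_pow, QuotientGroup.eq_one_iff]
    exact scalar_mem _ r h
  · intro h2
    rw [QuotientGroup.eq_one_iff] at h2
    obtain ⟨i, j, hij⟩ := h1
    apply hij
    have h3 := Subgroup.mem_center_iff.1 h2 (T i j 1)
    exact (congrArg Subtype.val h3).symm

def m3 : Matrix (Fin 3) (Fin 3) F4 := fun i j => ![![0, 1, 1], ![1, 1, ω], ![ω, 1, 1]] i j
def m7 : Matrix (Fin 3) (Fin 3) F4 := fun i j => ![![0, 1, 0], ![0, 0, 1], ![1, 1, 0]] i j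
def m7' : Matrix (Fin 3) (Fin 3) F4 := fun i j => ![![0, 0, 1], ![1, 0, ω], ![0, 1, 0]] i j

theorem det_m3 : m3.det = 1 := by rw [Matrix.det_fin_three]; decide +kernel
theorem det_m7 : m7.det = 1 := by rw [Matrix.det_fin_three]; decide +kernel
theorem det_m7' : m7'.det = 1 := by rw [Matrix.det_fin_three]; decide +kernel

def M3 : SL3 := ⟨m3, det_m3⟩
def M7 : SL3 := ⟨m7, det_m7⟩
def M7' : SL3 := ⟨m7', det_m7'⟩

theorem o_H : orderOf (QuotientGroup.mk H : PSL3) = 3 := by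
  have : Fact (Nat.Prime 3) := ⟨by norm_num⟩
  refine order_mk (r := 1) ?_ ⟨0, 1, ?_⟩
  · show hm ^ 3 = Matrix.diagonal (fun _ => 1)
    rw [pow_three]
    decide +kernel
  · show hm * tm 0 1 1 ≠ tm 0 1 1 * hm
    decide +kernel

theorem o_M3 : orderOf (QuotientGroup.mk M3 : PSL3) = 3 := by
  have : Fact (Nat.Prime 3) := ⟨by norm_num⟩
  have h : ∃ r : F4, m3 * (m3 * m3) = Matrix.diagonal (fun _ => r) := by decide +kernel
  obtain ⟨r, hr⟩ := h
  refine order_mk (r := r) ?_ ⟨0, 1, ?_⟩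
  · show m3 ^ 3 = Matrix.diagonal (fun _ => r)
    rw [pow_three]
    exact hr
  · show m3 * tm 0 1 1 ≠ tm 0 1 1 * m3
    decide +kernel

theorem pow_five' {M : Type*} [Monoid M] (a : M) : a ^ 5 = a * a * (a * a) * a := by
  simp only [pow_succ, pow_zero, one_mul, mul_assoc]

theorem pow_seven' {M : Type*} [Monoid M] (a : M) : a ^ 7 = a * a * (a * a) * (a * a) * a := by
  simp only [pow_succ, pow_zero, one_mul, mul_assoc]

theorem o_HM3 : orderOf (QuotientGroup.mk (H * M3) : PSL3) = 7 := by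
  have : Fact (Nat.Prime 7) := ⟨by norm_num⟩
  have h : ∃ r : F4, (hm * m3) * (hm * m3) * ((hm * m3) * (hm * m3)) * ((hm * m3) * (hm * m3)) * (hm * m3) =
      Matrix.diagonal (fun _ => r) := by decide +kernel
  obtain ⟨r, hr⟩ := h
  refine order_mk (r := r) ?_ ⟨0, 1, ?_⟩
  · show (hm * m3) ^ 7 = Matrix.diagonal (fun _ => r)
    rw [pow_seven']
    exact hr
  · show (hm * m3) * tm 0 1 1 ≠ tm 0 1 1 * (hm * m3)
    decide +kernel

theorem o_HM3M3 : orderOf (QuotientGroup.mk (H * M3 * M3) : PSL3) = 5 := by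
  have : Fact (Nat.Prime 5) := ⟨by norm_num⟩
  have h : ∃ r : F4, (hm * m3 * m3) * (hm * m3 * m3) * ((hm * m3 * m3) * (hm * m3 * m3)) * (hm * m3 * m3) =
      Matrix.diagonal (fun _ => r) := by decide +kernel
  obtain ⟨r, hr⟩ := h
  refine order_mk (r := r) ?_ ⟨0, 1, ?_⟩
  · show (hm * m3 * m3) ^ 5 = Matrix.diagonal (fun _ => r)
    rw [pow_five']
    exact hr
  · show (hm * m3 * m3) * tm 0 1 1 ≠ tm 0 1 1 * (hm * m3 * m3)
    decide +kernel

theorem o_M7 : orderOf (QuotientGroup.mk M7 : PSL3) = 7 := by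
  have : Fact (Nat.Prime 7) := ⟨by norm_num⟩
  have h : ∃ r : F4, m7 * m7 * (m7 * m7) * (m7 * m7) * m7 = Matrix.diagonal (fun _ => r) := by decide +kernel
  obtain ⟨r, hr⟩ := h
  refine order_mk (r := r) ?_ ⟨0, 1, ?_⟩
  · show m7 ^ 7 = Matrix.diagonal (fun _ => r)
    rw [pow_seven']
    exact hr
  · show m7 * tm 0 1 1 ≠ tm 0 1 1 * m7
    decide +kernel

theorem o_M7' : orderOf (QuotientGroup.mk M7' : PSL3) = 7 := by
  have : Fact (Nat.Prime 7) := ⟨by norm_num⟩
  have h : ∃ r : F4, m7' * m7' * (m7' * m7') * (m7' * m7') * m7' = Matrix.diagonal (fun _ => r) := by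
    decide +kernel
  obtain ⟨r, hr⟩ := h
  refine order_mk (r := r) ?_ ⟨0, 1, ?_⟩
  · show m7' ^ 7 = Matrix.diagonal (fun _ => r)
    rw [pow_seven']
    exact hr
  · show m7' * tm 0 1 1 ≠ tm 0 1 1 * m7'
    decide +kernel

theorem o_M7M7 : orderOf (QuotientGroup.mk (M7 * M7') : PSL3) = 5 := by
  have : Fact (Nat.Prime 5) := ⟨by norm_num⟩
  have h : ∃ r : F4, (m7 * m7') * (m7 * m7') * ((m7 * m7') * (m7 * m7')) * (m7 * m7') =
      Matrix.diagonal (fun _ => r) := by decide +kernel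
  obtain ⟨r, hr⟩ := h
  refine order_mk (r := r) ?_ ⟨0, 1, ?_⟩
  · show (m7 * m7') ^ 5 = Matrix.diagonal (fun _ => r)
    rw [pow_five']
    exact hr
  · show (m7 * m7') * tm 0 1 1 ≠ tm 0 1 1 * (m7 * m7')
    decide +kernel

/-- order of an element and order of a subgroup -/
theorem dvd_of_mem {S : Type*} [Group S] {M : Subgroup S} {x : S} {n : ℕ} (hx : x ∈ M) (h : orderOf x = n) :
    n ∣ Nat.card M := by
  rw [← h, ← Subgroup.orderOf_mk x hx]
  exact _root_.orderOf_dvd_natCard _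

/-- two elements of order 3 generate -/
theorem gen3 : ∃ x y : L0, orderOf x = 3 ∧ orderOf y = 3 ∧ ∀ M : Subgroup L0, x ∈ M → y ∈ M → M = ⊤ := by
  refine ⟨QuotientGroup.mk H, QuotientGroup.mk M3, o_H, o_M3, fun M hx hy => b34.eq_top (Or.inl ?_)⟩
  have h7 : 7 ∣ Nat.card M := dvd_of_mem (M := M) (M.mul_mem hx hy) o_HM3
  have h5 : 5 ∣ Nat.card M := dvd_of_mem (M := M) (M.mul_mem (M.mul_mem hx hy) hy) o_HM3M3
  exact Nat.Coprime.mul_dvd_of_dvd_of_dvd (by norm_num : Nat.Coprime 5 7) h5 h7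

/-- two elements of order 7 generate -/
theorem gen7 : ∃ x y : L0, orderOf x = 7 ∧ orderOf y = 7 ∧ ∀ M : Subgroup L0, x ∈ M → y ∈ M → M = ⊤ := by
  refine ⟨QuotientGroup.mk M7, QuotientGroup.mk M7', o_M7, o_M7', fun M hx hy => b34.eq_top (Or.inl ?_)⟩
  have h7 : 7 ∣ Nat.card M := dvd_of_mem (M := M) hx o_M7
  have h5 : 5 ∣ Nat.card M := dvd_of_mem (M := M) (M.mul_mem hx hy) o_M7M7
  exact Nat.Coprime.mul_dvd_of_dvd_of_dvd (by norm_num : Nat.Coprime 5 7) h5 h7

end Cfsg.Agent.H793.RIM
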