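import Mathlib
import Cfsg.Agent.SmallSimple.SylowInter

/-!
# Modules with all orbits of size prime to `p`, for central products over a simple group (helper793, for S4816)

`Sit p π N` : `π : H → S` surjective, `ker π / N` central in `H / N`, of order prime to `p`, `V` an irreducible
`F_p (H / N)`-module, faithful, all of whose orbits have size prime to `p`.

* `Sit.scal` : no nonzero vector generates a line invariant under a subgroup covering `S`;
* `Sit.index_stab` : the orbit size is `|S : π(Stab v)| * |ker π : N|`;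
* `Sit.card_modEq` : common divisors of the orbit sizes divide `|V| - 1`;
* `Sit.bound` : `|V| ≤ n ^ 2`, `n` the number of Sylow `p`-subgroups of `S`, if `S` is generated by two elements of order `p`;
* `Sit.eig` : eigenvectors for the preimage of an elementary abelian subgroup.
-/

set_option autoImplicit false
set_option linter.unusedSectionVars false

namespace Cfsg.Agent.H793.RIM

open Subgroup MulAction
open scoped commutatorElement

/-- The situation. -/
structure Sit {H S : Type*} (V : Type*) [Group H] [Finite H] [AddCommGroup V] [Finite V] [DistribMulAction H V] [Group S]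
    (p : ℕ) (π : H →* S) (N : Subgroup H) : Prop where
  hp : p.Prime
  perf : commutator H = ⊤
  surj : Function.Surjective π
  com : ∀ k ∈ π.ker, ∀ h : H, ⁅k, h⁆ ∈ N
  NK : N ≤ π.ker
  pK : ¬ p ∣ Nat.card π.ker
  exp : ∀ v : V, p • v = 0
  nt : Nontrivial V
  ker : ∀ h : H, (∀ v : V, h • v = v) ↔ h ∈ N
  irr : ∀ W : AddSubgroup V, (∀ h : H, ∀ w ∈ W, h • w ∈ W) → W = ⊥ ∨ W = ⊤
  P1 : ∀ v : V, ¬ p ∣ (MulAction.stabilizer H v).index
  nts : Nontrivial S

namespace Sit

variable {H V S : Type*} [Group H] [Finite H] [AddCommGroup V] [Finite V] [DistribMulAction H V] [Group S]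
  {p : ℕ} {π : H →* S} {N : Subgroup H}

theorem com' (h : Sit V p π N) {k : H} (hk : k ∈ π.ker) (x : H) (v : V) : k • x • v = x • k • v := by
  have h1 := (h.ker _).2 (h.com k hk x) (x • k • v)
  rw [commutatorElement_def, mul_smul, mul_smul, mul_smul, inv_smul_smul, inv_smul_smul] at h1
  exact h1

theorem normal (h : Sit V p π N) : N.Normal := by
  refine ⟨fun n hn g => ?_⟩
  rw [← h.ker] at hn ⊢
  intro v
  rw [mul_smul, mul_smul, hn, smul_inv_smul]

theorem fix_top (h : Sit V p π N) {v : V} (hv : ∀ x : H, x • v = v) : v = 0 := by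
  rcases h.irr (AddSubgroup.zmultiples v) (by
    rintro x _ ⟨n, rfl⟩
    refine ⟨n, ?_⟩
    show n • v = x • (n • v)
    rw [smul_comm, hv]) with h1 | h1
  · rwa [AddSubgroup.zmultiples_eq_bot] at h1
  · exfalso
    have h2 : π.ker = ⊤ := by
      rw [eq_top_iff]
      intro x _
      apply h.NK
      rw [← h.ker]
      intro w
      have h3 : w ∈ AddSubgroup.zmultiples v := by rw [h1]; trivial
      obtain ⟨n, rfl⟩ := h3
      show x • (n • v) = n • v
      rw [smul_comm, hv]
    obtain ⟨a, b, hab⟩ := h.nts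
    obtain ⟨x, rfl⟩ := h.surj a
    obtain ⟨y, rfl⟩ := h.surj b
    apply hab
    have hx : x ∈ π.ker := by rw [h2]; trivial
    have hy : y ∈ π.ker := by rw [h2]; trivial
    rw [MonoidHom.mem_ker] at hx hy
    rw [hx, hy]

/-- **No invariant lines.** -/
theorem scal (h : Sit V p π N) {A : Subgroup H} (hA : A.map π = ⊤) {v : V}
    (hs : ∀ x ∈ A, ∃ a : ℕ, x • v = a • v) : v = 0 := by
  apply h.fix_top
  have key : ∀ x y : H, ⁅x, y⁆ • v = v := by
    intro x y
    obtain ⟨l, hl, hlx⟩ : π x ∈ A.map π := by rw [hA]; trivial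
    obtain ⟨m, hm, hmy⟩ : π y ∈ A.map π := by rw [hA]; trivial
    obtain ⟨k, hk, hxk⟩ : ∃ k ∈ π.ker, x = l * k :=
      ⟨l⁻¹ * x, by rw [MonoidHom.mem_ker, map_mul, map_inv, hlx, inv_mul_cancel], by group⟩
    obtain ⟨j, hj, hyj⟩ : ∃ k ∈ π.ker, y = m * k :=
      ⟨m⁻¹ * y, by rw [MonoidHom.mem_ker, map_mul, map_inv, hmy, inv_mul_cancel], by group⟩
    obtain ⟨a, ha⟩ := hs l hl
    obtain ⟨a', ha'⟩ := hs l⁻¹ (inv_mem hl)
    obtain ⟨b, hb⟩ := hs m hm
    obtain ⟨b', hb'⟩ := hs m⁻¹ (inv_mem hm)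
    subst hxk hyj
    rw [commutatorElement_def, mul_inv_rev, mul_inv_rev]
    simp only [mul_smul]
    rw [h.com' hk m, h.com' hk j, smul_inv_smul, h.com' hj l⁻¹, smul_inv_smul]
    rw [hb', smul_comm l⁻¹ b' v, ha', smul_comm m b', smul_comm m a', hb, smul_comm l b', smul_comm l a', smul_comm l b, ha]
    have e1 : a' • (a • v) = v := by rw [← ha, ← smul_comm l, ← ha', smul_inv_smul]
    have e2 : b' • (b • v) = v := by rw [← hb, ← smul_comm m, ← hb', smul_inv_smul]
    rw [smul_comm a' b, e1, e2]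
  intro x
  have h1 : x ∈ commutator H := by rw [h.perf]; trivial
  have h2 : commutator H ≤ MulAction.stabilizer H v := by
    rw [commutator_def, Subgroup.commutator_le]
    intro x _ y _
    rw [MulAction.mem_stabilizer_iff]
    exact key x y
  exact MulAction.mem_stabilizer_iff.1 (h2 h1)

theorem top_stab (h : Sit V p π N) {v : V} (hv : v ≠ 0) : (MulAction.stabilizer H v).map π ≠ ⊤ := by
  intro h1
  exact hv (h.scal h1 fun x hx => ⟨1, by rw [MulAction.mem_stabilizer_iff.1 hx, one_smul]⟩)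

/-- the image of the stabilizer contains a Sylow `p`-subgroup -/
theorem dvd_card_map (h : Sit V p π N) {a : ℕ} (ha : p ^ a ∣ Nat.card S) (v : V) :
    p ^ a ∣ Nat.card ((MulAction.stabilizer H v).map π) := by
  have h1 := Subgroup.index_map_dvd (MulAction.stabilizer H v) h.surj
  have h2 : ¬ p ∣ ((MulAction.stabilizer H v).map π).index := fun h3 => h.P1 v (h3.trans h1)
  have h3 := ((MulAction.stabilizer H v).map π).card_mul_index
  rw [← h3] at ha
  exact (Nat.Coprime.pow_left a ((h.hp.coprime_iff_not_dvd).2 h2)).dvd_of_dvd_mul_right ha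

theorem stab_inf (h : Sit V p π N) {v : V} (hv : v ≠ 0) : MulAction.stabilizer H v ⊓ π.ker = N := by
  apply le_antisymm
  · rintro k ⟨hk1, hk⟩
    have hk : k ∈ π.ker := hk
    have hk1 : k • v = v := MulAction.mem_stabilizer_iff.1 hk1
    rcases h.irr
      { carrier := {w | k • w = w}
        add_mem' := fun {a b} ha hb => by
          show k • (a + b) = a + b
          rw [smul_add, ha, hb]
        zero_mem' := smul_zero k
        neg_mem' := fun {a} ha => by
          show k • (-a) = -a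
          rw [smul_neg, ha] } (by
        intro x w hw
        show k • x • w = x • w
        rw [h.com' hk]
        exact congrArg (x • ·) hw) with h1 | h1
    · exfalso
      apply hv
      have h2 : v ∈ (⊥ : AddSubgroup V) := h1 ▸ hk1
      exact AddSubgroup.mem_bot.1 h2
    · rw [← h.ker]
      intro w
      have h2 : w ∈ (⊤ : AddSubgroup V) := trivial
      rw [← h1] at h2
      exact h2
  · intro x hx
    exact ⟨MulAction.mem_stabilizer_iff.2 ((h.ker x).2 hx v), h.NK hx⟩

/-- **The orbit sizes.** -/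
theorem index_stab (h : Sit V p π N) {v : V} (hv : v ≠ 0) :
    (MulAction.stabilizer H v).index = ((MulAction.stabilizer H v).map π).index * N.relIndex π.ker := by
  set A := MulAction.stabilizer H v with hA
  have hfS : Finite S := Finite.of_surjective π h.surj
  have h1 : π.ker.relIndex A = Nat.card (A.map π) := Subgroup.relIndex_ker A π
  have h2 : Nat.card (A ⊓ π.ker : Subgroup H) * π.ker.relIndex A = Nat.card A := by
    rw [← Subgroup.card_mul_index (π.ker.subgroupOf A), Subgroup.relIndex]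
    congr 1
    have h3 : (π.ker.subgroupOf A).map A.subtype = A ⊓ π.ker := by
      rw [Subgroup.subgroupOf_map_subtype, inf_comm]
    have h4 : Nat.card ((π.ker.subgroupOf A).map A.subtype) = Nat.card (π.ker.subgroupOf A) :=
      Subgroup.card_map_of_injective A.subtype_injective
    rw [← h3, h4]
  rw [h.stab_inf hv, h1] at h2
  have h3 := A.card_mul_index
  have h4 := (A.map π).card_mul_index
  have h5 : Nat.card π.ker * Nat.card S = Nat.card H := by
    have h6 := π.ker.card_mul_index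
    rwa [Subgroup.index_ker, MonoidHom.range_eq_top.2 h.surj, Subgroup.card_top] at h6
  have h6 : Nat.card N * N.relIndex π.ker = Nat.card π.ker := by
    rw [← Subgroup.card_mul_index (N.subgroupOf π.ker), Subgroup.relIndex,
      Nat.card_congr (subgroupOfEquivOfLe h.NK).toEquiv]
  have h7 : 0 < Nat.card N * Nat.card (A.map π) := Nat.mul_pos Nat.card_pos Nat.card_pos
  apply Nat.eq_of_mul_eq_mul_left h7
  calc Nat.card N * Nat.card (A.map π) * A.index = Nat.card H := by rw [h2, h3]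
    _ = (Nat.card N * N.relIndex π.ker) * (Nat.card (A.map π) * (A.map π).index) := by rw [h4, h6, h5]
    _ = _ := by ring

/-- **The congruence.** -/
theorem card_modEq (h : Sit V p π N) {D : ℕ}
    (hD : ∀ v : V, v ≠ 0 → D ∣ ((MulAction.stabilizer H v).map π).index * N.relIndex π.ker) :
    Nat.card V ≡ 1 [MOD D] := by
  refine SmallSimple.SylowInter.card_modEq_one_of_orbits (H := H) (α := V) D 0 (fun x => smul_zero x) ?_
  intro v hv
  have h1 := MulAction.index_stabilizer H v
  rw [Nat.card_coe_set_eq, ← h1, h.index_stab hv]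
  exact hD v hv

theorem card_V (h : Sit V p π N) : ∃ d, 0 < d ∧ Nat.card V = p ^ d := by
  have hp := h.hp
  have : Fact p.Prime := ⟨hp⟩
  have h1 : IsPGroup p (Multiplicative V) := fun v => ⟨1, by
    rw [pow_one]
    exact h.exp (Multiplicative.toAdd v)⟩
  obtain ⟨d, hd⟩ := (IsPGroup.iff_card).1 h1
  rw [Nat.card_congr (Multiplicative.toAdd (α := V))] at hd
  refine ⟨d, ?_, hd⟩
  rcases Nat.eq_zero_or_pos d with h0 | h0
  · exfalso
    rw [h0, pow_zero] at hd
    have := h.nt
    exact absurd hd (Finite.one_lt_card (α := V)).ne'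
  · exact h0

/-- elements of `ker π` of order prime to `|ker π : N|` modulo `N` are in `N` -/
theorem triv (h : Sit V p π N) {k : H} (hk : k ∈ π.ker) {r j : ℕ} (hr : r.Prime) (hrz : ¬ r ∣ N.relIndex π.ker)
    (hkr : k ^ r ^ j ∈ N) : k ∈ N := by
  have hN := h.normal
  have h1 : k ^ N.relIndex π.ker ∈ N := by
    have h2 := Subgroup.pow_index_mem (N.subgroupOf π.ker) (⟨k, hk⟩ : π.ker)
    rw [mem_subgroupOf] at h2
    exact h2
  have h2 : orderOf (QuotientGroup.mk k : H ⧸ N) ∣ N.relIndex π.ker := by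
    apply orderOf_dvd_of_pow_eq_one
    rw [← QuotientGroup.mk_pow, QuotientGroup.eq_one_iff]
    exact h1
  have h3 : orderOf (QuotientGroup.mk k : H ⧸ N) ∣ r ^ j := by
    apply orderOf_dvd_of_pow_eq_one
    rw [← QuotientGroup.mk_pow, QuotientGroup.eq_one_iff]
    exact hkr
  have h4 := Nat.eq_one_of_dvd_coprimes (Nat.Coprime.pow_left j ((hr.coprime_iff_not_dvd).2 hrz)) h3 h2
  rw [orderOf_eq_one_iff, QuotientGroup.eq_one_iff] at h4
  exact h4

/-- the fixed points of a subgroup -/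
def fx (V : Type*) [AddCommGroup V] [DistribMulAction H V] (P : Subgroup H) : AddSubgroup V where
  carrier := {w | ∀ x ∈ P, x • w = w}
  add_mem' := fun {a b} ha hb x hx => by rw [smul_add, ha x hx, hb x hx]
  zero_mem' := fun x _ => smul_zero x
  neg_mem' := fun {a} ha x hx => by rw [smul_neg, ha x hx]

theorem mem_fx {P : Subgroup H} {w : V} : w ∈ fx V P ↔ ∀ x ∈ P, x • w = w := Iff.rfl

theorem pz (h : Sit V p π N) : ¬ p ∣ N.relIndex π.ker := by
  intro h1
  exact h.pK (h1.trans (Subgroup.relIndex_dvd_card _ _))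

theorem fx_le (h : Sit V p π N) {P P' : Sylow p H} (hP : (P : Subgroup H).map π = (P' : Subgroup H).map π) :
    fx V (P : Subgroup H) ≤ fx V (P' : Subgroup H) := by
  have hN := h.normal
  intro v hv x' hx'
  obtain ⟨x, hx, hxx⟩ : π x' ∈ (P : Subgroup H).map π := by rw [hP]; exact mem_map_of_mem _ hx'
  have hk : x⁻¹ * x' ∈ π.ker := by rw [MonoidHom.mem_ker, map_mul, map_inv, hxx, inv_mul_cancel]
  obtain ⟨a, ha⟩ := P.2 ⟨x, hx⟩
  obtain ⟨b, hb⟩ := P'.2 ⟨x', hx'⟩
  have ha' : x ^ p ^ a = 1 := congrArg Subtype.val ha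
  have hb' : x' ^ p ^ b = 1 := congrArg Subtype.val hb
  have h1 : x⁻¹ * x' ∈ N := by
    refine h.triv hk h.hp h.pz (j := a + b) ?_
    rw [← QuotientGroup.eq_one_iff, QuotientGroup.mk_pow]
    have hc : Commute (QuotientGroup.mk x : H ⧸ N) (QuotientGroup.mk (x⁻¹ * x') : H ⧸ N) := by
      show (QuotientGroup.mk (x * (x⁻¹ * x')) : H ⧸ N) = QuotientGroup.mk ((x⁻¹ * x') * x)
      rw [QuotientGroup.eq]
      have h2 := h.com _ (inv_mem hk) x⁻¹
      rw [commutatorElement_def] at h2
      have h3 : (x * (x⁻¹ * x'))⁻¹ * (x⁻¹ * x' * x) = (x⁻¹ * x')⁻¹ * x⁻¹ * ((x⁻¹ * x')⁻¹)⁻¹ * (x⁻¹)⁻¹ := by group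
      rw [h3]
      exact h2
    have h2 : (QuotientGroup.mk x' : H ⧸ N) = QuotientGroup.mk x * QuotientGroup.mk (x⁻¹ * x') := by
      rw [← QuotientGroup.mk_mul, mul_inv_cancel_left]
    have h3 : (QuotientGroup.mk x' : H ⧸ N) ^ p ^ (a + b) = 1 := by
      rw [← QuotientGroup.mk_pow, pow_add, mul_comm, pow_mul, hb', one_pow]
      rfl
    have h4 : (QuotientGroup.mk x : H ⧸ N) ^ p ^ (a + b) = 1 := by
      rw [← QuotientGroup.mk_pow, pow_add, pow_mul, ha', one_pow]
      rfl
    rw [h2, hc.mul_pow, h4, one_mul] at h3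
    exact h3
  have h2 := (h.ker _).2 h1 v
  rw [mul_smul] at h2
  have h3 : x' • v = x • v := by
    rw [← h2, smul_inv_smul, h2]
  rw [h3, hv x hx]

theorem card_fx (_ : Sit V p π N) (P P' : Sylow p H) [Fact p.Prime] :
    Nat.card (fx V (P : Subgroup H)) = Nat.card (fx V (P' : Subgroup H)) := by
  obtain ⟨g, rfl⟩ := MulAction.exists_smul_eq H P P'
  refine Nat.card_congr
    { toFun := fun w => ⟨g • (w : V), ?_⟩
      invFun := fun w => ⟨g⁻¹ • (w : V), ?_⟩
      left_inv := fun w => Subtype.ext (inv_smul_smul g _)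
      right_inv := fun w => Subtype.ext (smul_inv_smul g _) }
  · intro x hx
    obtain ⟨y, hy, rfl⟩ : ∃ y ∈ (P : Subgroup H), g * y * g⁻¹ = x := hx
    have := w.2 y hy
    rw [mul_smul, mul_smul, inv_smul_smul, this]
  · intro y hy
    have h1 : g * y * g⁻¹ ∈ ((g • P : Sylow p H) : Subgroup H) := ⟨y, hy, rfl⟩
    have := w.2 _ h1
    rw [mul_smul, mul_smul] at this
    calc y • g⁻¹ • (w : V) = g⁻¹ • (g • y • g⁻¹ • (w : V)) := (inv_smul_smul g _).symm
      _ = _ := by rw [this]

/-- **The bound.** -/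
theorem bound (h : Sit V p π N) {x y : S} (hx : orderOf x = p) (hy : orderOf y = p)
    (hgen : ∀ M : Subgroup S, x ∈ M → y ∈ M → M = ⊤) : Nat.card V ≤ Nat.card (Sylow p S) ^ 2 := by
  classical
  have hp := h.hp
  have : Fact p.Prime := ⟨hp⟩
  have hfS : Finite S := Finite.of_surjective π h.surj
  have hs := Sylow.mapSurjective_surjective h.surj p
  choose s hs using hs
  have hs' : ∀ Q : Sylow p S, ((s Q : Sylow p H) : Subgroup H).map π = (Q : Subgroup S) := by
    intro Q
    have h1 := congrArg (fun R : Sylow p S => (R : Subgroup S)) (hs Q)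
    exact h1
  -- covering
  obtain ⟨P0⟩ : Nonempty (Sylow p H) := inferInstance
  set c := Nat.card (fx V (P0 : Subgroup H)) with hc
  have h1 : Nat.card V ≤ Nat.card (Sylow p S) * c := by
    have := Fintype.ofFinite (Sylow p S)
    have h2 : Nat.card (Σ Q : Sylow p S, fx V ((s Q : Sylow p H) : Subgroup H)) = Nat.card (Sylow p S) * c := by
      rw [Nat.card_sigma, Finset.sum_congr rfl (fun Q _ => h.card_fx (s Q) P0), Finset.sum_const, Finset.card_univ,
        smul_eq_mul, Nat.card_eq_fintype_card (α := Sylow p S)]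
    rw [← h2]
    refine Nat.card_le_card_of_surjective (fun w => ((w.2 : _) : V)) ?_
    intro v
    -- a Sylow subgroup in the stabilizer
    obtain ⟨R⟩ : Nonempty (Sylow p (MulAction.stabilizer H v)) := inferInstance
    have hR : ∃ P : Sylow p H, (P : Subgroup H) ≤ MulAction.stabilizer H v := by
      have h3 : IsPGroup p ((R : Subgroup (MulAction.stabilizer H v)).map (MulAction.stabilizer H v).subtype) :=
        R.2.map _
      obtain ⟨P, hP⟩ := h3.exists_le_sylow
      refine ⟨P, ?_⟩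
      have h4 : (R : Subgroup (MulAction.stabilizer H v)).map (MulAction.stabilizer H v).subtype = P := by
        refine eq_of_le_of_card_ge hP ?_
        rw [Subgroup.card_map_of_injective (Subgroup.subtype_injective _), P.card_eq_multiplicity, R.card_eq_multiplicity]
        refine Nat.pow_le_pow_right hp.pos ?_
        rw [← (MulAction.stabilizer H v).card_mul_index, Nat.factorization_mul Nat.card_pos.ne'
          (Subgroup.index_ne_zero_of_finite), Finsupp.add_apply, Nat.factorization_eq_zero_of_not_dvd (h.P1 v), add_zero]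
      rw [← h4]
      exact Subgroup.map_subtype_le _
    obtain ⟨P, hP⟩ := hR
    refine ⟨⟨P.mapSurjective h.surj, ⟨v, ?_⟩⟩, rfl⟩
    refine h.fx_le (P := P) ?_ ?_
    · rw [hs']
      rfl
    · intro g hg
      exact MulAction.mem_stabilizer_iff.1 (hP hg)
  -- two fixed point spaces
  have h2 : c ^ 2 ≤ Nat.card V := by
    have hQ : ∀ z : S, orderOf z = p → ∃ Q : Sylow p S, z ∈ (Q : Subgroup S) := by
      intro z hz
      have h3 : IsPGroup p (zpowers z) := IsPGroup.of_card (n := 1) (by rw [Nat.card_zpowers, hz, pow_one])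
      obtain ⟨Q, hQ⟩ := h3.exists_le_sylow
      exact ⟨Q, hQ (mem_zpowers z)⟩
    obtain ⟨Q1, hQ1⟩ := hQ x hx
    obtain ⟨Q2, hQ2⟩ := hQ y hy
    have h3 : ∀ v ∈ fx V ((s Q1 : Sylow p H) : Subgroup H), v ∈ fx V ((s Q2 : Sylow p H) : Subgroup H) → v = 0 := by
      intro v hv1 hv2
      by_contra hne
      apply h.top_stab hne
      apply hgen
      · rw [← hs' Q1] at hQ1
        obtain ⟨g, hg, rfl⟩ := hQ1
        exact mem_map_of_mem _ (MulAction.mem_stabilizer_iff.2 (hv1 g hg))
      · rw [← hs' Q2] at hQ2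
        obtain ⟨g, hg, rfl⟩ := hQ2
        exact mem_map_of_mem _ (MulAction.mem_stabilizer_iff.2 (hv2 g hg))
    have h4 : Nat.card (fx V ((s Q1 : Sylow p H) : Subgroup H) × fx V ((s Q2 : Sylow p H) : Subgroup H)) ≤ Nat.card V := by
      refine Nat.card_le_card_of_injective (fun w => ((w.1 : V) + (w.2 : V))) ?_
      rintro ⟨a, b⟩ ⟨a', b'⟩ hab
      have hab : (a : V) + b = a' + b' := hab
      have h5 : (a : V) - a' = b' - b := by
        rw [sub_eq_sub_iff_add_eq_add, hab, add_comm]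
      have h6 := h3 _ (AddSubgroup.sub_mem _ a.2 a'.2) (h5 ▸ AddSubgroup.sub_mem _ b'.2 b.2)
      have h7 : (a : V) = a' := sub_eq_zero.1 h6
      rw [h6] at h5
      have h8 : (b' : V) = b := sub_eq_zero.1 h5.symm
      exact Prod.ext (Subtype.ext h7) (Subtype.ext h8.symm)
    rw [Nat.card_prod, h.card_fx (s Q1) P0, h.card_fx (s Q2) P0] at h4
    rw [pow_two]
    exact h4
  have h3 : 0 < Nat.card V := Nat.card_pos
  by_contra hlt
  push Not at hlt
  set n := Nat.card (Sylow p S) with hn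
  have h4 : Nat.card V * Nat.card V ≤ (n * c) * (n * c) := Nat.mul_le_mul h1 h1
  have h5 : (n * c) * (n * c) ≤ n ^ 2 * Nat.card V := by
    calc (n * c) * (n * c) = n ^ 2 * c ^ 2 := by ring
      _ ≤ _ := Nat.mul_le_mul_left _ h2
  have h6 : n ^ 2 * Nat.card V < Nat.card V * Nat.card V := Nat.mul_lt_mul_of_pos_right hlt h3
  omega

/-- a subgroup covering an `r`-subgroup of `S` -/
theorem exists_cover (h : Sit V p π N) {r : ℕ} (hr : r.Prime) {E : Subgroup S} (hE : IsPGroup r E) :
    ∃ R : Subgroup H, IsPGroup r R ∧ R.map π = E := by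
  have : Fact r.Prime := ⟨hr⟩
  have hfS : Finite S := Finite.of_surjective π h.surj
  obtain ⟨Q', hQ'⟩ := hE.exists_le_sylow
  obtain ⟨Q, hQ⟩ := Sylow.mapSurjective_surjective h.surj r Q'
  have h1 : (Q : Subgroup H).map π = (Q' : Subgroup S) := congrArg (fun R : Sylow r S => (R : Subgroup S)) hQ
  refine ⟨(Q : Subgroup H) ⊓ E.comap π, Q.2.to_le inf_le_left, ?_⟩
  apply le_antisymm
  · rintro _ ⟨x, hx, rfl⟩
    exact hx.2
  · intro x hx
    obtain ⟨q, hq, rfl⟩ : x ∈ (Q : Subgroup H).map π := by rw [h1]; exact hQ' hx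
    exact ⟨q, ⟨hq, hx⟩, rfl⟩

/-- one eigenvector -/
theorem eig_one {g : H} {W : AddSubgroup V} (hW : ∀ w ∈ W, g • w ∈ W) {r : ℕ}
    (hpr : (p = 3 ∧ r = 2) ∨ (p = 7 ∧ r = 3)) (hexp : ∀ v : V, p • v = 0) (hg : ∀ v : V, (g ^ r) • v = v)
    {w : V} (hw : w ∈ W) (hw0 : w ≠ 0) : ∃ a : ℕ, ∃ u ∈ W, u ≠ 0 ∧ g • u = a • u := by
  rcases hpr with ⟨rfl, rfl⟩ | ⟨rfl, rfl⟩
  · have h1 : g • g • w = w := by rw [← mul_smul, ← pow_two, hg]
    by_cases h2 : g • w + w = 0
    · refine ⟨2, w, hw, hw0, ?_⟩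
      have h3 := hexp w
      have h4 : g • w = -w := eq_neg_of_add_eq_zero_left h2
      rw [h4]
      have h5 : (3 : ℕ) • w = 2 • w + w := by rw [← succ_nsmul]
      rw [h5] at h3
      exact (eq_neg_of_add_eq_zero_left h3).symm
    · refine ⟨1, g • w + w, W.add_mem (hW w hw) hw, h2, ?_⟩
      rw [smul_add, h1, one_smul, add_comm]
  · have h1 : g • g • g • w = w := by
      rw [← mul_smul, ← mul_smul, ← pow_three', hg]
    by_cases h2 : g • w - w = 0
    · exact ⟨1, w, hw, hw0, by rw [one_smul]; exact sub_eq_zero.1 h2⟩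
    · have hm1 : g • w - w ∈ W := W.sub_mem (hW w hw) hw
      by_cases h3 : g • (g • w - w) - 2 • (g • w - w) = 0
      · exact ⟨2, g • w - w, hm1, h2, sub_eq_zero.1 h3⟩
      · refine ⟨4, g • (g • w - w) - 2 • (g • w - w), W.sub_mem (hW _ hm1) (W.nsmul_mem hm1 2), h3, ?_⟩
        have e1 := hexp (g • g • w)
        have e2 := hexp (g • w)
        have e3 := hexp w
        simp only [smul_sub]
        rw [smul_comm g (2 : ℕ) (g • w), smul_comm g (2 : ℕ) w, h1]
        have e4 : w - g • g • w - (2 • g • g • w - 2 • g • w) -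
            (4 • g • g • w - 4 • g • w - (4 • 2 • g • w - 4 • 2 • w)) =
            -(7 • (g • g • w)) + 2 • (7 • (g • w)) - 7 • w := by
          abel
        rw [e1, e2, e3] at e4
        simp only [smul_zero, neg_zero, add_zero, sub_zero] at e4
        exact sub_eq_zero.1 e4

/-- **Common eigenvectors.** -/
theorem eig (h : Sit V p π N) {r : ℕ} (hr : r.Prime) (hpr : (p = 3 ∧ r = 2) ∨ (p = 7 ∧ r = 3))
    (hrz : ¬ r ∣ N.relIndex π.ker) {E : Subgroup S} (hE : ∀ x ∈ E, x ^ r = 1)
    (hcomm : ∀ x ∈ E, ∀ y ∈ E, x * y = y * x) :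
    ∃ v : V, v ≠ 0 ∧ ∃ R : Subgroup H, R.map π = E ∧ ∀ g ∈ R, ∃ a : ℕ, g • v = a • v := by
  have hEp : IsPGroup r E := fun x => ⟨1, Subtype.ext (by rw [pow_one, coe_pow]; exact hE x x.2)⟩
  obtain ⟨R, hR, hRE⟩ := h.exists_cover hr hEp
  have htr : ∀ g ∈ R, g ∈ π.ker → g ∈ N := by
    intro g hg hk
    obtain ⟨j, hj⟩ := hR ⟨g, hg⟩
    refine h.triv hk hr hrz (j := j) ?_
    have : g ^ r ^ j = 1 := congrArg Subtype.val hj
    rw [this]
    exact N.one_mem
  have hπ : ∀ g ∈ R, π g ∈ E := by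
    intro g hg
    rw [← hRE]
    exact mem_map_of_mem _ hg
  have hpow : ∀ g ∈ R, ∀ v : V, (g ^ r) • v = v := by
    intro g hg
    rw [h.ker]
    apply htr _ (R.pow_mem hg r)
    rw [MonoidHom.mem_ker, map_pow]
    exact hE _ (hπ g hg)
  have hco : ∀ g ∈ R, ∀ g' ∈ R, ∀ v : V, g • g' • v = g' • g • v := by
    intro g hg g' hg' v
    have h1 : (g' * g)⁻¹ * (g * g') ∈ N := by
      apply htr _ (R.mul_mem (R.inv_mem (R.mul_mem hg' hg)) (R.mul_mem hg hg'))
      rw [MonoidHom.mem_ker, map_mul, map_inv, map_mul, map_mul, hcomm _ (hπ g hg) _ (hπ g' hg'), inv_mul_cancel]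
    have h2 := (h.ker _).2 h1 v
    rw [mul_smul, inv_smul_eq_iff, mul_smul, mul_smul] at h2
    exact h2
  -- a minimal invariant subgroup
  obtain ⟨W, hW⟩ : ∃ W : AddSubgroup V, Minimal (fun W : AddSubgroup V => W ≠ ⊥ ∧ ∀ g ∈ R, ∀ w ∈ W, g • w ∈ W) W := by
    have h1 : Set.Finite {W : AddSubgroup V | W ≠ ⊥ ∧ ∀ g ∈ R, ∀ w ∈ W, g • w ∈ W} := Set.toFinite _
    have := h.nt
    exact h1.exists_minimal ⟨⊤, ⟨bot_ne_top.symm, fun _ _ _ _ => trivial⟩⟩
  obtain ⟨⟨hW0, hWR⟩, hmin⟩ := hW
  obtain ⟨⟨w0, hw0⟩, hw1⟩ := (AddSubgroup.ne_bot_iff_exists_ne_zero).1 hW0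
  have hw0' : w0 ≠ 0 := fun h1 => hw1 (Subtype.ext h1)
  refine ⟨w0, hw0', R, hRE, ?_⟩
  intro g hg
  obtain ⟨a, u, hu, hu0, hgu⟩ := eig_one (W := W) (hWR g hg) hpr h.exp (hpow g hg) hw0 hw0'
  refine ⟨a, ?_⟩
  let U : AddSubgroup V :=
    { carrier := {w | w ∈ W ∧ g • w = a • w}
      add_mem' := fun {x y} hx hy => ⟨W.add_mem hx.1 hy.1, by rw [smul_add, hx.2, hy.2, smul_add]⟩
      zero_mem' := ⟨W.zero_mem, by rw [smul_zero, smul_zero]⟩
      neg_mem' := fun {x} hx => ⟨W.neg_mem hx.1, by rw [smul_neg, hx.2, smul_neg]⟩ }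
  have hU : W ≤ U := by
    refine hmin ⟨?_, ?_⟩ (fun x hx => hx.1)
    · intro h1
      apply hu0
      have h2 : u ∈ U := ⟨hu, hgu⟩
      rw [h1] at h2
      exact AddSubgroup.mem_bot.1 h2
    · intro g' hg' w hw
      refine ⟨hWR g' hg' w hw.1, ?_⟩
      rw [hco g hg g' hg', hw.2, smul_comm]
  exact (hU hw0).2

/-- **No eigenvectors for large subgroups.** -/
theorem no_eig (h : Sit V p π N) {r : ℕ} (hr : r.Prime) (hpr : (p = 3 ∧ r = 2) ∨ (p = 7 ∧ r = 3))
    {E : Subgroup S} (hE : ∀ x ∈ E, x ^ r = 1)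
    (hcomm : ∀ x ∈ E, ∀ y ∈ E, x * y = y * x) {a : ℕ} (ha : p ^ a ∣ Nat.card S)
    (htop : ∀ M : Subgroup S, Nat.card E ∣ Nat.card M → p ^ a ∣ Nat.card M → M = ⊤) : r ∣ N.relIndex π.ker := by
  by_contra hrz
  obtain ⟨v, hv, R, hRE, hR⟩ := h.eig hr hpr hrz hE hcomm
  apply hv
  have hA : ∀ x ∈ R ⊔ MulAction.stabilizer H v, ∃ a : ℕ, x • v = a • v := by
    intro x hx
    rw [Subgroup.sup_eq_closure] at hx
    induction hx using Subgroup.closure_induction with
    | mem x hx =>
      rcases hx with hx | hx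
      · exact hR x hx
      · exact ⟨1, by rw [MulAction.mem_stabilizer_iff.1 hx, one_smul]⟩
    | one => exact ⟨1, by rw [one_smul, one_smul]⟩
    | mul x y _ _ hx hy =>
      obtain ⟨b, hb⟩ := hx
      obtain ⟨c, hc⟩ := hy
      exact ⟨c * b, by rw [mul_smul, hc, smul_comm, hb, mul_smul]⟩
    | inv x _ hx =>
      obtain ⟨b, hb⟩ := hx
      have h1 : ∀ n : ℕ, (x ^ n) • v = (b ^ n) • v := by
        intro n
        induction n with
        | zero => rw [pow_zero, pow_zero, one_smul, one_smul]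
        | succ n ih => rw [pow_succ, mul_smul, hb, smul_comm, ih, ← mul_smul, pow_succ, mul_comm]
      have h2 : x⁻¹ = x ^ (orderOf x - 1) := by
        rw [inv_eq_iff_mul_eq_one, ← pow_succ', Nat.sub_add_cancel (orderOf_pos x), pow_orderOf_eq_one]
      exact ⟨b ^ (orderOf x - 1), by rw [h2]; exact h1 _⟩
  refine h.scal (A := R ⊔ MulAction.stabilizer H v) (htop _ ?_ ?_) hA
  · rw [← hRE]
    exact Subgroup.card_dvd_of_le (Subgroup.map_mono le_sup_left)
  · exact (h.dvd_card_map ha v).trans (Subgroup.card_dvd_of_le (Subgroup.map_mono le_sup_right))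

end Sit

end Cfsg.Agent.H793.RIM
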