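import Cfsg.Agent.H665.RIM.Defs
import Cfsg.Agent.H793.RIM.Sit
import Cfsg.Agent.H793.RIM.L34B

/-!
# S4816: `EK 3` and `EK 7` for `PSL(3,4)` (helper793)
-/

set_option autoImplicit false
set_option linter.unusedSectionVars false

namespace Cfsg.Agent.H793.RIM

open Subgroup MulAction
open scoped commutatorElement
open Cfsg.Agent.H665.RIM Cfsg.Agent.H229.RIM

universe u

/-- `CoreP` with `K / N` central is a situation `Sit`. -/
theorem sit_of_core {p : ℕ} (hp : p.Prime) {H V : Type*} [Group H] [Finite H] [AddCommGroup V] [Finite V] [DistribMulAction H V]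
    {K N : Subgroup H} {φ : N →* ℂˣ} (hc : CoreP (V := V) p K N φ) {S : Type*} [Group S] {π : H →* S}
    (hs : Function.Surjective π) (hk : π.ker = K) (hcom : ∀ k ∈ K, ∀ h : H, ⁅k, h⁆ ∈ N) : Sit V p π N := by
  refine ⟨hp, hc.perf, hs, hk ▸ hcom, hk ▸ hc.NK, hk ▸ hc.pK, hc.exp, hc.nt, hc.ker, hc.irr, hc.P1, ?_⟩
  by_contra hn
  rw [not_nontrivial_iff_subsingleton] at hn
  apply hc.Kt
  rw [← hk, eq_top_iff]
  intro x _
  exact Subsingleton.elim _ _

theorem div3 : ∀ m ∈ Nat.divisors 20160, m % 9 = 0 → m % 63 ≠ 0 → m % 144 ≠ 0 → 20160 / m % 56 = 0 := by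
  decide +kernel

theorem div7 : ∀ m ∈ Nat.divisors 20160, m % 7 = 0 → m % 35 ≠ 0 → m % 63 ≠ 0 → 20160 / m % 15 = 0 := by
  decide +kernel

variable {S : Type*} [Group S]

theorem no_sit3 (hS : B34 S)
    (gen : ∃ x y : S, orderOf x = 3 ∧ orderOf y = 3 ∧ ∀ M : Subgroup S, x ∈ M → y ∈ M → M = ⊤)
    {E : Subgroup S} (hE : Nat.card E = 16) (hE2 : ∀ x ∈ E, x ^ 2 = 1) (hEc : ∀ x ∈ E, ∀ y ∈ E, x * y = y * x)
    {H V : Type*} [Group H] [Finite H] [AddCommGroup V] [Finite V] [DistribMulAction H V] {π : H →* S}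
    {N : Subgroup H} (h : Sit V 3 π N) : False := by
  have hfin := hS.finite
  obtain ⟨x, y, hx, hy, hg⟩ := gen
  have h1 := h.bound hx hy hg
  rw [hS.n3] at h1
  obtain ⟨d, hd0, hd⟩ := h.card_V
  have h2 : 2 ∣ N.relIndex π.ker := by
    refine h.no_eig Nat.prime_two (Or.inl ⟨rfl, rfl⟩) hE2 hEc (a := 2) (by rw [hS.card]; norm_num) ?_
    intro M hM1 hM2
    rw [hE] at hM1
    exact hS.eq_top (Or.inr (Or.inr (Nat.Coprime.mul_dvd_of_dvd_of_dvd (by norm_num : Nat.Coprime 16 9) hM1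
      (by simpa using hM2))))
  have h3 : Nat.card V ≡ 1 [MOD 56 * N.relIndex π.ker] := by
    refine h.card_modEq fun v hv => Nat.mul_dvd_mul_right ?_ _
    have h4 := h.dvd_card_map (a := 2) (by rw [hS.card]; norm_num) v
    have h5 := h.top_stab hv
    set M := (MulAction.stabilizer H v).map π with hM
    have h6 := M.card_mul_index
    rw [hS.card] at h6
    have h7 : Nat.card M ∈ Nat.divisors 20160 := Nat.mem_divisors.2 ⟨⟨M.index, h6.symm⟩, by norm_num⟩
    have h8 := div3 _ h7 (Nat.mod_eq_zero_of_dvd (by simpa using h4))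
      (fun h9 => h5 (hS.eq_top (Or.inr (Or.inl (Nat.dvd_of_mod_eq_zero h9)))))
      (fun h9 => h5 (hS.eq_top (Or.inr (Or.inr (Nat.dvd_of_mod_eq_zero h9)))))
    have h9 : M.index = 20160 / Nat.card M := by
      rw [← h6, Nat.mul_div_cancel_left _ Nat.card_pos]
    rw [h9]
    exact Nat.dvd_of_mod_eq_zero h8
  rw [hd] at h1 h3
  have hd10 : d ≤ 10 := by
    by_contra hlt
    push Not at hlt
    have := Nat.pow_le_pow_right (show 0 < 3 by norm_num) hlt
    norm_num at this h1
    omega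
  have h4 : 112 ∣ 56 * N.relIndex π.ker := by
    obtain ⟨z, hz⟩ := h2
    exact ⟨z, by rw [hz]; ring⟩
  have h5 : 3 ^ d ≡ 1 [MOD 112] := h3.of_dvd h4
  interval_cases d <;> revert h5 <;> decide

theorem no_sit7 (hS : B34 S)
    (gen : ∃ x y : S, orderOf x = 7 ∧ orderOf y = 7 ∧ ∀ M : Subgroup S, x ∈ M → y ∈ M → M = ⊤)
    {H V : Type*} [Group H] [Finite H] [AddCommGroup V] [Finite V] [DistribMulAction H V] {π : H →* S}
    {N : Subgroup H} (h : Sit V 7 π N) : False := by
  have hfin := hS.finite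
  have hF7 : Fact (Nat.Prime 7) := ⟨by norm_num⟩
  obtain ⟨x, y, hx, hy, hg⟩ := gen
  have h1 := h.bound hx hy hg
  have hn7 : Nat.card (Sylow 7 S) ≤ 2880 := by
    obtain ⟨Q, hQ⟩ := card_sylow_of_card (S := S) (r := 7) (a := 1) (P := zpowers x)
      (by rw [Nat.card_zpowers, hx, pow_one]) (by rw [hS.card]; norm_num)
    have h2 := Q.card_dvd_index
    have h3 := (Q : Subgroup S).card_mul_index
    rw [hQ, Nat.card_zpowers, hx, hS.card] at h3
    rw [hQ] at h2
    have h4 : (zpowers x).index = 2880 := by omega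
    rw [h4] at h2
    exact Nat.le_of_dvd (by norm_num) h2
  obtain ⟨d, hd0, hd⟩ := h.card_V
  have h2 : 3 ∣ N.relIndex π.ker := by
    have hF3 : Fact (Nat.Prime 3) := ⟨Nat.prime_three⟩
    obtain ⟨Q⟩ : Nonempty (Sylow 3 S) := inferInstance
    have hQ : Nat.card (Q : Subgroup S) = 9 := by
      obtain ⟨b, hb⟩ := (IsPGroup.iff_card).1 Q.2
      have h1 : 3 ^ 2 ∣ Nat.card Q := Q.pow_dvd_card_of_pow_dvd_card (by rw [hS.card]; norm_num)
      have h2 : Nat.card Q ∣ 20160 := by rw [← hS.card]; exact card_subgroup_dvd_card _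
      have h3 : b < 3 := by
        by_contra h4
        push Not at h4
        have h6 : 3 ^ 3 ∣ 20160 := (pow_dvd_pow 3 h4).trans (hb ▸ h2)
        revert h6; norm_num
      have h6 : 2 ≤ b := by
        rw [hb] at h1
        exact (Nat.pow_dvd_pow_iff_le_right (by norm_num)).1 h1
      have : b = 2 := by omega
      rw [hb, this]; norm_num
    refine h.no_eig Nat.prime_three (Or.inr ⟨rfl, rfl⟩) (E := (Q : Subgroup S)) ?_
      (fun x hx y hy => comm_nine hQ hx hy) (a := 1) (by rw [hS.card]; norm_num) ?_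
    · intro x hx
      by_cases h1 : x = 1
      · rw [h1, one_pow]
      · rw [← hS.order_mem Nat.prime_three (Or.inr ⟨rfl, hQ⟩) hx h1]
        exact pow_orderOf_eq_one x
    · intro M hM1 hM2
      rw [hQ] at hM1
      exact hS.eq_top (Or.inr (Or.inl (Nat.Coprime.mul_dvd_of_dvd_of_dvd (by norm_num : Nat.Coprime 9 7) hM1
        (by simpa using hM2))))
  have h3 : Nat.card V ≡ 1 [MOD 45] := by
    refine h.card_modEq fun v hv => ?_
    have h4 := h.dvd_card_map (a := 1) (by rw [hS.card]; norm_num) v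
    have h5 := h.top_stab hv
    set M := (MulAction.stabilizer H v).map π with hM
    have h6 := M.card_mul_index
    rw [hS.card] at h6
    have h7 : Nat.card M ∈ Nat.divisors 20160 := Nat.mem_divisors.2 ⟨⟨M.index, h6.symm⟩, by norm_num⟩
    have h8 := div7 _ h7 (Nat.mod_eq_zero_of_dvd (by simpa using h4))
      (fun h9 => h5 (hS.eq_top (Or.inl (Nat.dvd_of_mod_eq_zero h9))))
      (fun h9 => h5 (hS.eq_top (Or.inr (Or.inl (Nat.dvd_of_mod_eq_zero h9)))))
    have h9 : M.index = 20160 / Nat.card M := by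
      rw [← h6, Nat.mul_div_cancel_left _ Nat.card_pos]
    rw [h9]
    exact Nat.mul_dvd_mul (Nat.dvd_of_mod_eq_zero h8) h2
  rw [hd] at h1 h3
  have hd8 : d ≤ 8 := by
    by_contra hlt
    push Not at hlt
    have h4 := Nat.pow_le_pow_right (show 0 < 7 by norm_num) hlt
    have h5 := Nat.pow_le_pow_left hn7 2
    norm_num at h4 h5
    omega
  interval_cases d <;> revert h3 <;> decide

theorem sq_A {x : StdLThreeFour.Base.L0} (hx : x ∈ StdLThreeFour.Base.A false) : x ^ 2 = 1 := by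
  rw [pow_two]
  exact StdLThreeFour.Facts1.sq_of_mem_A hx

/-- **The case `p = 3`.** -/
theorem ek3_L34 {S : Type u} [Group S] {F : Type*} [Field F] [Fintype F] (hF : Fintype.card F = 4)
    (e : Nonempty (S ≃* Matrix.ProjectiveSpecialLinearGroup (Fin 3) F)) : EK 3 S := by
  intro H V _ _ _ _ _ K N φ π hc hs hk hcom
  obtain ⟨e⟩ := e
  obtain ⟨f⟩ := SporadicA.FieldFour.nonempty_psl_equiv (n := Fin 3) F hF
  have hk' : ((e.trans f.symm).toMonoidHom.comp π).ker = K := by
    rw [← hk]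
    ext x
    rw [MonoidHom.mem_ker, MonoidHom.mem_ker, MonoidHom.comp_apply]
    exact map_eq_one_iff _ (e.trans f.symm).injective
  exact no_sit3 b34 gen3 (E := StdLThreeFour.Base.A false) (StdLThreeFour.Facts1.card_A false) (fun x hx => sq_A hx)
    (fun x hx y hy => StdLThreeFour.Facts1.A_comm hx hy)
    (sit_of_core Nat.prime_three hc ((e.trans f.symm).surjective.comp hs) hk' hcom)

/-- **The case `p = 7`.** -/
theorem ek7_L34 {S : Type u} [Group S] {F : Type*} [Field F] [Fintype F] (hF : Fintype.card F = 4)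
    (e : Nonempty (S ≃* Matrix.ProjectiveSpecialLinearGroup (Fin 3) F)) : EK 7 S := by
  intro H V _ _ _ _ _ K N φ π hc hs hk hcom
  obtain ⟨e⟩ := e
  obtain ⟨f⟩ := SporadicA.FieldFour.nonempty_psl_equiv (n := Fin 3) F hF
  have hk' : ((e.trans f.symm).toMonoidHom.comp π).ker = K := by
    rw [← hk]
    ext x
    rw [MonoidHom.mem_ker, MonoidHom.mem_ker, MonoidHom.comp_apply]
    exact map_eq_one_iff _ (e.trans f.symm).injective
  exact no_sit7 b34 gen7 (sit_of_core (by norm_num) hc ((e.trans f.symm).surjective.comp hs) hk' hcom)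

end Cfsg.Agent.H793.RIM
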